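import Cfsg.Agent.Lib.PLocal.CStar.Assembly.AllBadMove
import Cfsg.Agent.Lib.PLocal.Blocks.Split

/-!
At most one commutator of a nearly central involution fails to centralize a linear block.
-/

set_option linter.all false
set_option autoImplicit false

namespace Cfsg.Agent.PLocal.CStar.Assembly

open Subgroup Cfsg
open Cfsg.Agent.PLocal.Blocks
open Cfsg.Agent.PLocal.ThompsonSubgroup
open Cfsg.Agent.PLocal.BlockModule (tU)
open scoped commutatorElement MatrixGroups

universe u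

variable {G : Type u} [Group G] [Finite G] {T : Sylow 2 G} {E : Subgroup G} [Fact (Nat.Prime 2)]
variable {F : Type} [Field F] [Fintype F] [CharP F 2]

local notation "WE" => omegaOneCenter 2 (pCoreOf 2 E)
local notation "ZE" => omegaOneCenter 2 (pCoreOf 2 E) ⊓ Subgroup.centralizer (E : Set G)
local notation "NE" => Subgroup.normalizer (E : Set G)
local notation "WC" => ⁅omegaOneCenter 2 (pCoreOf 2 E), E⁆

theorem coord_inv (ρ : Rep 2 E (Fin 2 → F)) (u : ↥WE) : ρ.coord u⁻¹ = ρ.coord u := by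
  congr 1
  refine Subtype.ext (inv_eq_of_mul_eq_one_right ?_)
  show (u : G) * u = 1
  rw [← pow_two]
  exact BlockLocation.pow_eq_one_of_mem_omegaCenter _ u.2

/-- At most one commutator of a nearly central involution fails to centralize a linear block. -/
theorem linear_pp_eq (hG : centralizer (pCore 2 G : Set G) ≤ pCore 2 G)
    (hE : IsBaumannBlock 2 (T : Subgroup G) E) (hEs : E.IsSubnormal) (ρ₀ : Rep 2 E (Fin 2 → F))
    (hρ₀ : ρ₀.onBlock.range = SL2.img F) {z z' : ↥(T : Subgroup G)}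
    (hz : IsPP z) (hzC : (z : G) ∉ centralizer (E : Set G))
    (hz' : IsPP z') (hzC' : (z' : G) ∉ centralizer (E : Set G)) : z = z' := by
  classical
  obtain ⟨ρ, hρ, -, hU⟩ := exists_adapted hE ρ₀ hρ₀
  have hN : ∀ {b}, b ∈ thompsonSubgroupOf 2 (T : Subgroup G) → ∃ hb : b ∈ NE, ∃ s, ρ.act ⟨b, hb⟩ = SL2.lin (tU s) :=
    fun hb => ⟨_, hU _ (BlockBasic.thompson_le_baumann _ hb)⟩
  have hfacts : ∀ A ∈ maxElementaryAbelianSubgroups 2 G, A ≤ (T : Subgroup G) →
      ¬ A ≤ centralizer ((WC : Subgroup G) : Set G) →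
      A ⊓ centralizer ((WC : Subgroup G) : Set G) ⊔ (WC : Subgroup G) ∈ maxElementaryAbelianSubgroups 2 G ∧
        ∀ s : F, ∃ a ∈ A, ∃ ha : a ∈ NE, ρ.act ⟨a, ha⟩ = SL2.lin (tU s) := by
    intro A hA hAT hAC
    have hAJ := le_thompsonSubgroupOf hA hAT
    have hAN : A ≤ NE := fun a ha => (hN (hAJ ha)).1
    have htU : ∀ a ∈ ρ.image A, ∃ s, a = SL2.lin (tU s) := by
      rintro _ ⟨a, ha, rfl⟩
      exact (hN (hAJ ha)).2
    have hfix : ρ.fixedAdd A ≤ line F := by
      obtain ⟨a, ha, ha1⟩ := SetLike.not_le_iff_exists.mp hAC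
      obtain ⟨s, hs⟩ := (hN (hAJ ha)).2
      have hs0 : s ≠ 0 := fun h0 => by
        rw [h0, SL2.tU_zero, map_one] at hs
        exact ha1 ((ρ.act_eq_one_iff hE _).mp hs)
      intro v hv
      have h := congr_fun (hv _ (ρ.mem_image hAN ha)) 0
      rw [hs, SL2.tU_apply] at h
      simp at h
      exact h.resolve_left hs0
    choose sf hsf using fun a : ρ.image A => htU a a.2
    have hinj : Function.Injective sf := fun a b e => Subtype.ext (by rw [hsf, hsf, e])
    have h1 : Nat.card (ρ.fixedAdd A) ≤ Nat.card F := by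
      exact (Nat.card_le_card_of_injective _ (AddSubgroup.inclusion_injective hfix)).trans_eq card_line
    have h2 := Nat.card_le_card_of_injective sf hinj
    refine ⟨max_sup hE ρ hA hAN ?_, fun s => ?_⟩
    · rw [card_module]; exact Nat.mul_le_mul h2 h1
    have hoff := ρ.card_le_image_mul_fixed hE hA hAN
    rw [card_module] at hoff
    have h3 : Nat.card F ≤ Nat.card (ρ.image A) :=
      Nat.le_of_mul_le_mul_right (hoff.trans (Nat.mul_le_mul_left _ h1)) (Nat.card_pos (α := F))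
    haveI := Fintype.ofFinite ↥(ρ.image A)
    obtain ⟨⟨_, a, ha, rfl⟩, rfl⟩ := ((Fintype.bijective_iff_injective_and_card sf).2 ⟨hinj, by
      rw [← Nat.card_eq_fintype_card, ← Nat.card_eq_fintype_card]; exact le_antisymm h2 h3⟩).2 s
    exact ⟨a, ha, a.2, hsf ⟨_, a, ha, rfl⟩⟩
  have hmax := fun A hA hAT hAC => (hfacts A hA hAT hAC).1
  have hWW : ∀ {w}, w ∈ (WC : Subgroup G) → w ∈ WE := fun h => commutator_WE_le h
  -- the coordinates of the commutators
  have hcc : ∀ (g : G) (hg : g ∈ NE) (s : F), ρ.act ⟨g, hg⟩ = SL2.lin (tU s) → ∀ (w : G) (hw : w ∈ WE),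
      ρ.coord ⟨⁅g, w⁆, comm_mem_WE hg hw⟩ = ![s * ρ.coord ⟨w, hw⟩ 1, 0] := fun g hg s hs w hw => by
    rw [coord_comm ρ ⟨g, hg⟩ hw, hs, SL2.tU_apply]
    ext i
    fin_cases i <;> simp [CharTwo.add_self_eq_zero, add_right_comm _ (s * _)]
  have key : ∀ {y : ↥(T : Subgroup G)}, IsPP y → (y : G) ∉ centralizer (E : Set G) →
      ∃ hy : (y : G) ∈ (WC : Subgroup G),
        ∀ r : F, ![r, 0] = (0 : Fin 2 → F) ∨ ![r, 0] = ρ.coord ⟨_, hWW hy⟩ := by
    intro y hy hyC
    obtain ⟨hyW, ⟨x, hxJ, hxN, hxC, hval⟩ | ⟨A, hA, hAT, w, hw, ⟨a, ha, hwa⟩, hval⟩⟩ :=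
      pp_shape hG hE hEs hmax hy hyC
    · refine ⟨hyW, fun r => ?_⟩
      obtain ⟨hxN', s, hs⟩ := hN hxJ
      have hs0 : s ≠ 0 := fun h0 => by
        rw [h0, SL2.tU_zero, map_one] at hs
        exact hxC ((ρ.act_eq_one_iff hE _).mp hs)
      obtain ⟨⟨w, hw⟩, he⟩ := ρ.onWC_surjective hE (Multiplicative.ofAdd ![0, s⁻¹ * r])
      have hc : ρ.coord ⟨w, hWW hw⟩ = ![0, s⁻¹ * r] := by
        show Multiplicative.toAdd (ρ.onWC ⟨w, hw⟩) = _
        rw [he]; rfl
      have h := hcc x hxN' s hs w (hWW hw)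
      rw [hc] at h
      simp [mul_inv_cancel_left₀ hs0] at h
      rw [← h]
      rcases hval w hw with e | e
      · exact Or.inl (ρ.coord_eq_zero.2 (by show ⁅x, w⁆ ∈ ZE; rw [e]; exact one_mem _))
      · exact Or.inr (congrArg ρ.coord (Subtype.ext e))
    · refine ⟨hyW, fun r => ?_⟩
      have hAJ := le_thompsonSubgroupOf hA hAT
      have hval' : ∀ b, ∀ hb : b ∈ NE, b ∈ A → ρ.coord ⟨⁅b, w⁆, comm_mem_WE hb (hWW hw)⟩ = 0 ∨
          ρ.coord ⟨⁅b, w⁆, comm_mem_WE hb (hWW hw)⟩ = ρ.coord ⟨_, hWW hyW⟩ := fun b hb hbA => by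
        rcases hval b hbA with e | e
        · refine Or.inl (ρ.coord_eq_zero.2 ?_)
          show ⁅b, w⁆ ∈ ZE
          rw [← commutatorElement_inv, e, inv_one]; exact one_mem _
        · refine Or.inr ?_
          rw [← coord_inv ρ ⟨_, hWW hyW⟩]
          exact congrArg ρ.coord (Subtype.ext (show ⁅b, w⁆ = (y : G)⁻¹ by rw [← commutatorElement_inv, e]))
      have hw1 : ρ.coord ⟨w, hWW hw⟩ 1 ≠ 0 := fun h0 => by
        obtain ⟨haN, s, hs⟩ := hN (hAJ ha)
        have h := hcc a haN s hs w (hWW hw)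
        rw [h0, mul_zero, show (![0, 0] : Fin 2 → F) = 0 by ext i; fin_cases i <;> rfl, ρ.coord_eq_zero] at h
        refine hyC ?_
        rw [← hwa, ← commutatorElement_inv]
        exact inv_mem h.2
      have hAC : ¬ A ≤ centralizer ((WC : Subgroup G) : Set G) := fun h => hy.1 (Subtype.ext (by
        rw [← hwa, commutatorElement_eq_one_iff_mul_comm.2 (mem_centralizer_iff.1 (h ha) w hw)]; rfl))
      obtain ⟨b, hb, hbN, hbs⟩ := (hfacts A hA hAT hAC).2 (r * (ρ.coord ⟨w, hWW hw⟩ 1)⁻¹)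
      have h := hcc b hbN _ hbs w (hWW hw)
      rw [inv_mul_cancel_right₀ hw1] at h
      rw [← h]
      exact hval' b hbN hb
  obtain ⟨hyW, hall⟩ := key hz hzC
  obtain ⟨hyW', hall'⟩ := key hz' hzC'
  have hne : ∀ r : F, r ≠ 0 → (![r, 0] : Fin 2 → F) ≠ 0 := fun r hr h => hr (by simpa using congr_fun h 0)
  have e1 := (hall 1).resolve_left (hne 1 one_ne_zero)
  have e2 := (hall' 1).resolve_left (hne 1 one_ne_zero)
  have hsub : ∀ r : F, r = 0 ∨ r = 1 := fun r => by
    rcases eq_or_ne r 0 with h | h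
    · exact Or.inl h
    · have := (hall r).resolve_left (hne r h)
      rw [← e1] at this
      exact Or.inr (by simpa using congr_fun this 0)
  have h2 : Fintype.card F = 2 := by
    refine le_antisymm ?_ Fintype.one_lt_card
    rw [← Finset.card_univ]
    exact (Finset.card_le_card (fun r _ => by simpa using hsub r : Finset.univ ⊆ ({0, 1} : Finset F))).trans
      Finset.card_le_two
  have h : (z : G) * (z' : G)⁻¹ ∈ ZE := ρ.coord_eq_iff.1 (e1.symm.trans e2)
  have hm : (z : G) * (z' : G)⁻¹ ∈ (WC : Subgroup G) ⊓ centralizer (E : Set G) :=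
    ⟨Subgroup.mul_mem _ hyW (Subgroup.inv_mem _ hyW'), h.2⟩
  rw [ρ.inf_eq_bot_of_two hE hρ h2, mem_bot, mul_inv_eq_one] at hm
  exact Subtype.ext hm

end Cfsg.Agent.PLocal.CStar.Assembly
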