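import Cfsg.Agent.Lib.PLocal.CStar.Assembly.AllBadAlt
import Cfsg.Agent.Lib.PLocal.CStar.Assembly.AllBadLinear
import Cfsg.Agent.Lib.PLocal.CStar.Assembly.Degree

/-!
One alternating member of degree `2k+1`, `k` not a power of two, forces `C(G,T) = G`.
-/

set_option linter.all false
set_option autoImplicit false

namespace Cfsg.Agent.PLocal.CStar.Assembly

open Subgroup Cfsg
open Cfsg.Agent.PLocal.Blocks
open scoped commutatorElement MatrixGroups

universe u

theorem wl_sq_val (F : Type) [Field F] :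
    ((BlockModule.wl : SL(2, F)) * BlockModule.wl).1 = (-1 : Matrix (Fin 2) (Fin 2) F) := by
  ext i j
  rw [Matrix.SpecialLinearGroup.coe_mul]
  fin_cases i <;> fin_cases j <;> simp [BlockModule.wl, Matrix.mul_apply, Fin.sum_univ_two]

theorem wl_sq_comm {F : Type} [Field F] (a : SL(2, F)) :
    a * ((BlockModule.wl : SL(2, F)) * BlockModule.wl) = BlockModule.wl * BlockModule.wl * a :=
  Subtype.ext (by
    rw [Matrix.SpecialLinearGroup.coe_mul a, Matrix.SpecialLinearGroup.coe_mul _ a, wl_sq_val, mul_neg, neg_mul,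
      mul_one, one_mul])

theorem wl_sq_ne_one {F : Type} [Field F] (h2 : (2 : F) ≠ 0) : (BlockModule.wl : SL(2, F)) * BlockModule.wl ≠ 1 := by
  intro e
  have h := congrArg (fun M : Matrix (Fin 2) (Fin 2) F => M 0 0) ((wl_sq_val F).symm.trans (congrArg Subtype.val e))
  simp at h
  exact h2 (by linear_combination -h)

variable {G : Type u} [Group G] [Finite G]

/-- Two commutators of nearly central involutions with different numbers of conjugates, from a bad block. -/
theorem exists_two_classes [Fact (Nat.Prime 2)] {T : Sylow 2 G}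
    (hG : centralizer (pCore 2 G : Set G) ≤ pCore 2 G) {E : Subgroup G}
    (hE : IsBaumannBlock 2 (T : Subgroup G) E) (hEs : E.IsSubnormal) (hd : ¬ HasDegree 2 E) :
    ∃ z z' : ↥(T : Subgroup G), IsPP z ∧ IsPP z' ∧
      (centralizer ({z} : Set ↥(T : Subgroup G))).index ≠ (centralizer ({z'} : Set ↥(T : Subgroup G))).index := by
  classical
  obtain ⟨k, ⟨iso⟩, hk⟩ : ∃ k, Nonempty (↥E ⧸ pCore 2 ↥E ≃* ↥(alternatingGroup (Fin (2 * k + 1)))) ∧
      ∀ m, 2 * k ≠ 2 ^ m := by
    simp only [HasDegree, not_forall] at hd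
    obtain ⟨k, hi, hk⟩ := hd
    exact ⟨k, hi, fun m hm => hk ⟨m, by omega⟩⟩
  have hk3 : 3 ≤ k := by
    by_contra hlt
    rcases k with _ | _ | _ | k
    · refine BlockModule.not_le_core hE fun x hx => ?_
      have : (⟨x, hx⟩ : ↥E) ∈ pCore 2 ↥E := (QuotientGroup.eq_one_iff _).mp (iso.injective (by
        haveI : Subsingleton (Equiv.Perm (Fin (2 * 0 + 1))) := inferInstanceAs (Subsingleton (Equiv.Perm (Fin 1)))
        exact Subsingleton.elim _ _))
      exact ⟨_, this, rfl⟩
    · exact hk 1 (by norm_num)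
    · exact hk 2 (by norm_num)
    · omega
  obtain ⟨ρ, hρ, -⟩ := exists_rep hE hk3 iso
  obtain ⟨D⟩ := exists_altData hG hE hEs (by omega) ⟨k, rfl⟩ ρ hρ
  obtain ⟨p₀, hp₀⟩ := exists_fixed_point D.isPGroup_sylR D.odd
  obtain ⟨a, b, ha, hb, hab⟩ := two_sizes D.isPGroup_sylR D.sylR_index rfl hk3 hk hp₀
  obtain ⟨a', ha', hsa⟩ := exists_swap_mem D.odd D.isPGroup_sylR D.sylR_index hp₀ ha
  obtain ⟨b', hb', hsb⟩ := exists_swap_mem D.odd D.isPGroup_sylR D.sylR_index hp₀ hb
  obtain ⟨z, hz, hzW, hzc⟩ := D.exists_pp hp₀ ha' hsa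
  obtain ⟨z', hz', hzW', hzc'⟩ := D.exists_pp hp₀ hb' hsb
  refine ⟨z, z', hz, hz', fun e => hab ?_⟩
  have h1 := D.two_index ha' hsa hzW hzc
  have h2 := D.two_index hb' hsb hzW' hzc'
  rw [e, h2] at h1
  exact (Nat.eq_of_mul_eq_mul_right (Nat.pos_of_ne_zero index_ne_zero_of_finite) h1).symm

/-- For a good block the commutators not centralizing it have one number of conjugates. -/
theorem index_eq_of_good [Fact (Nat.Prime 2)] {T : Sylow 2 G}
    (hG : centralizer (pCore 2 G : Set G) ≤ pCore 2 G) {E : Subgroup G}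
    (hE : IsBaumannBlock 2 (T : Subgroup G) E) (hEs : E.IsSubnormal) (hd : HasDegree 2 E)
    {z z' : ↥(T : Subgroup G)} (hz : IsPP z) (hzC : (z : G) ∉ centralizer (E : Set G))
    (hz' : IsPP z') (hzC' : (z' : G) ∉ centralizer (E : Set G)) :
    (centralizer ({z} : Set ↥(T : Subgroup G))).index = (centralizer ({z'} : Set ↥(T : Subgroup G))).index := by
  rcases block_cases hE with ⟨F, iF, iFt, iC, n, ρ, -, hρ, -⟩ | ⟨-, n, ρ, hn, hodd, hρ, -⟩
  · haveI := iC
    rw [linear_pp_eq hG hE hEs ρ hρ hz hzC hz' hzC']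
  obtain ⟨s, hs⟩ : ∃ s, n = 2 ^ s + 1 := by
    obtain ⟨m, rfl⟩ := hodd
    have hker : pCore 2 ↥E = ρ.onBlock.ker := by
      ext e; rw [MonoidHom.mem_ker, onBlock_eq_one_iff hE]
    exact hd m ⟨(QuotientGroup.quotientMulEquivOfEq hker).trans ((QuotientGroup.quotientKerEquivRange ρ.onBlock).trans
      ((MulEquiv.subgroupCongr hρ).trans
        ((alternatingGroup (Fin (2 * m + 1))).equivMapOfInjective _ (AltModule.act_injective hn)).symm))⟩
  have hs1 : 1 ≤ s := by
    by_contra h0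
    have : s = 0 := by omega
    subst this
    rw [pow_zero] at hs
    omega
  obtain ⟨D⟩ := exists_altData hG hE hEs hn hodd ρ hρ
  obtain ⟨p₀, hp₀⟩ := exists_fixed_point D.isPGroup_sylR D.odd
  obtain ⟨u, v, hvu, hsw, hzW, hzc⟩ := D.pp_pair hp₀ hz hzC
  obtain ⟨u', v', hvu', hsw', hzW', hzc'⟩ := D.pp_pair hp₀ hz' hzC'
  obtain ⟨r, hr, hru⟩ := transitive_of_good D.isPGroup_sylR D.sylR_index hs hs1 hp₀
    (D.ne_fixed hp₀ hvu hsw) (D.ne_fixed hp₀ hvu' hsw')
  have horb : MulAction.orbit D.sylR u' = MulAction.orbit D.sylR u :=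
    MulAction.orbit_eq_iff.2 ⟨⟨r, hr⟩, hru⟩
  have h1 := D.two_index hvu hsw hzW hzc
  have h2 := D.two_index hvu' hsw' hzW' hzc'
  rw [horb, ← h1] at h2
  exact (Nat.eq_of_mul_eq_mul_left (by norm_num) h2).symm

variable {T : Sylow 2 G} [Fact (Nat.Prime 2)]

/-- A bad member forces `C(G,T) = G`. -/
theorem charJoin_eq_top_of_not_hasDegree (hG : centralizer (pCore 2 G : Set G) ≤ pCore 2 G) (hsub : BlocksCovered T)
    {E : Subgroup G} (hE : E ∈ members 2 (T : Subgroup G)) (hd : ¬ HasDegree 2 E) :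
    charNormalizersJoin (T : Subgroup G) = ⊤ := by
  obtain ⟨z, z', hz, hz', hne⟩ := exists_two_classes hG hE.1 hE.2.1 hd
  have hT : (T : Subgroup G) ≠ ⊥ := fun h => hz.1 (by
    haveI : Subsingleton ↥(T : Subgroup G) := by rw [h]; infer_instance
    exact Subsingleton.elim _ _)
  rw [eq_top_iff, ← sup_members hG hsub]
  refine sup_le (cStar_le_charJoin T hT) (sSup_le fun F hF => ?_)
  by_cases hdF : HasDegree 2 F
  swap
  · exact (le_charCore_of_not_hasDegree hG hsub hF hdF).trans charCore_le_charJoin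
  by_cases h : ∀ w : ↥(T : Subgroup G), IsPP w →
      (centralizer ({w} : Set ↥(T : Subgroup G))).index = (centralizer ({z} : Set ↥(T : Subgroup G))).index →
      (w : G) ∈ centralizer (F : Set G)
  · exact le_charJoin_of_class hz rfl h
  push Not at h
  obtain ⟨w, hw, hwc, hwF⟩ := h
  refine le_charJoin_of_class hz' rfl fun w' hw' hwc' => ?_
  by_contra hwF'
  exact hne (hwc.symm.trans ((index_eq_of_good hG hF.1 hF.2.1 hdF hw hwF hw' hwF').trans hwc'))

omit [Fact (Nat.Prime 2)]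

/-- If `C(G,T) ≠ G` every member has a good degree. -/
theorem hasDegree_members {p : ℕ} [Fact p.Prime] {T : Sylow p G}
    (hG : centralizer (pCore p G : Set G) ≤ pCore p G) (hsub : BlocksCovered T)
    (hne : charNormalizersJoin (T : Subgroup G) ≠ ⊤) :
    ∀ E ∈ members p (T : Subgroup G), HasDegree p E := by
  intro E hE
  by_cases hp : p = 2
  · subst hp
    by_contra hd
    exact hne (charJoin_eq_top_of_not_hasDegree hG hsub hE hd)
  rintro m ⟨iso⟩
  rcases Nat.lt_or_ge m 2 with hm | hm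
  · rcases m with _ | m
    · exfalso
      refine BlockModule.not_le_core hE.1 fun x hx => ?_
      have : (⟨x, hx⟩ : ↥E) ∈ pCore p ↥E := (QuotientGroup.eq_one_iff _).mp (iso.injective (by
        haveI : Subsingleton (Equiv.Perm (Fin (2 * 0 + 1))) := inferInstanceAs (Subsingleton (Equiv.Perm (Fin 1)))
        exact Subsingleton.elim _ _))
      exact ⟨_, this, rfl⟩
    · exact ⟨1, by omega⟩
  exfalso
  have hc : center ↥(alternatingGroup (Fin (2 * m + 1))) = ⊥ :=
    alternatingGroup.center_eq_bot (by rw [Nat.card_fin]; omega)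
  have key : ∀ {X : Type} [Group X] (x : X), x ∈ center X → x ≠ 1 →
      (↥E ⧸ pCore p ↥E ≃* X) → False := fun {X} _ x hx hx1 e => hx1 (by
    have h1 : (e.symm.trans iso) x ∈ center ↥(alternatingGroup (Fin (2 * m + 1))) := mem_center_iff.2 fun a => by
      obtain ⟨a, rfl⟩ := (e.symm.trans iso).surjective a
      rw [← map_mul, ← map_mul, mem_center_iff.1 hx a]
    rw [hc, mem_bot] at h1
    exact (e.symm.trans iso).map_eq_one_iff.1 h1)
  rcases member_shape hG hsub hE with ⟨F, iF, iFt, m', -, hF, ⟨i⟩, -⟩ | ⟨h2, -⟩ | ⟨h3, ⟨i⟩, -⟩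
  · haveI := Blocks.charP_of_card hF
    have h2 : (2 : F) ≠ 0 := fun h => hp ((Nat.prime_dvd_prime_iff_eq Fact.out Nat.prime_two).mp
      ((CharP.cast_eq_zero_iff F p 2).mp (by exact_mod_cast h)))
    exact key _ (mem_center_iff.2 wl_sq_comm) (wl_sq_ne_one h2) i
  · exact hp h2
  · have h2 : (2 : ZMod 3) ≠ 0 := by intro h; exact absurd h (by decide)
    exact key ⟨(BlockModule.wl : SL(2, ZMod 3)) * BlockModule.wl, mul_mem (SL2.wl_mem_commutator h2)
      (SL2.wl_mem_commutator h2)⟩ (mem_center_iff.2 fun a => Subtype.ext (wl_sq_comm _))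
      (fun e => wl_sq_ne_one h2 (congrArg Subtype.val e)) i

/-- The local `C(G,T)`-theorem, given the covering. -/
theorem exists_structure_degree {p : ℕ} [Fact p.Prime] {T : Sylow p G}
    (hG : centralizer (pCore p G : Set G) ≤ pCore p G) (hsub : BlocksCovered T)
    (hne : charNormalizersJoin (T : Subgroup G) ≠ ⊤) :
    ∃ 𝓑 : Set (Subgroup G), HasBaumannBlockStructure p (T : Subgroup G) 𝓑 ∧ ∀ E ∈ 𝓑, HasDegree p E :=
  ⟨_, hasStructure hG hsub, hasDegree_members hG hsub hne⟩

end Cfsg.Agent.PLocal.CStar.Assembly
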