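import Cfsg.Agent.Lib.PLocal.CStar.Assembly.DegreePerm

/-!
Sylow `2`-subgroups of the symmetric group of odd degree: their transpositions and orbit sizes.
-/

set_option linter.all false
set_option autoImplicit false

namespace Cfsg.Agent.PLocal.CStar.Assembly

open Subgroup Equiv MulAction

universe u

/-- A Sylow subgroup contains a conjugate of every `2`-subgroup. -/
theorem contains_conj {S : Type u} [Group S] [Finite S] {R K : Subgroup S} (hR : IsPGroup 2 R)
    (hidx : ¬ 2 ∣ R.index) (hK : IsPGroup 2 K) : ∃ w : S, ∀ g ∈ K, w * g * w⁻¹ ∈ R := by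
  haveI : Fact (Nat.Prime 2) := ⟨Nat.prime_two⟩
  obtain ⟨Q, hQ⟩ := hK.exists_le_sylow
  obtain ⟨w, hw⟩ := MulAction.exists_smul_eq S Q (hR.toSylow hidx)
  refine ⟨w, fun g hg => ?_⟩
  show w * g * w⁻¹ ∈ ((hR.toSylow hidx : Sylow 2 S) : Subgroup S)
  rw [← hw, Sylow.coe_subgroup_smul]
  exact ⟨g, hQ hg, rfl⟩

variable {n : ℕ} {R : Subgroup (Perm (Fin n))}

/-- Transpositions in a `2`-group are disjoint. -/
theorem swap_unique (hR : IsPGroup 2 R) {u v w : Fin n} (hv : v ≠ u) (hw : w ≠ u) (h : swap u v ∈ R)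
    (h' : swap u w ∈ R) : v = w := by
  by_contra hne
  have h3 : (swap u v * swap u w).IsThreeCycle := Perm.isThreeCycle_swap_mul_swap_same hv.symm hw.symm hne
  obtain ⟨k, hk⟩ := hR ⟨_, mul_mem h h'⟩
  have hd : orderOf (swap u v * swap u w) ∣ 2 ^ k :=
    orderOf_dvd_of_pow_eq_one (by simpa using congrArg Subtype.val hk)
  rw [h3.orderOf] at hd
  exact absurd (Nat.Prime.dvd_of_dvd_pow Nat.prime_three hd) (by norm_num)

/-- A Sylow subgroup fixing a point has a transposition at every other point. -/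
theorem exists_swap_mem (hn : Odd n) (hR : IsPGroup 2 R) (hidx : ¬ 2 ∣ R.index) {p₀ : Fin n}
    (hp₀ : ∀ r ∈ R, r p₀ = p₀) {u : Fin n} (hu : u ≠ p₀) : ∃ v, v ≠ u ∧ swap u v ∈ R := by
  classical
  obtain ⟨k, rfl⟩ := hn
  let t : Fin (2 * k + 1) → Fin (2 * k + 1) := fun i =>
    if h : (i : ℕ) = 2 * k then i
    else if (i : ℕ) % 2 = 0 then ⟨i + 1, by have := i.2; omega⟩ else ⟨i - 1, by have := i.2; omega⟩
  have ht : ∀ i : Fin (2 * k + 1), ((t i : Fin _) : ℕ) =
      if (i : ℕ) = 2 * k then (i : ℕ) else if (i : ℕ) % 2 = 0 then (i : ℕ) + 1 else (i : ℕ) - 1 := fun i => by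
    simp only [t]
    split_ifs <;> rfl
  have htt : ∀ i, t (t i) = i := fun i => Fin.ext (by
    have h1 := ht i
    have h2 := ht (t i)
    have h3 := i.2
    have h4 := (t i).2
    split_ifs at h1 h2 <;> omega)
  have htfix : ∀ i, t i = i → (i : ℕ) = 2 * k := fun i h => by
    have h1 := ht i
    rw [h] at h1
    split_ifs at h1 <;> omega
  let K : Subgroup (Perm (Fin (2 * k + 1))) :=
    { carrier := {σ | ∀ i, σ i = i ∨ σ i = t i}
      one_mem' := fun i => Or.inl rfl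
      mul_mem' := fun {a b} ha hb i => by
        rw [Perm.mul_apply]
        rcases hb i with e | e <;> rw [e]
        · exact ha i
        · rcases ha (t i) with e' | e' <;> rw [e']
          · exact Or.inr rfl
          · exact Or.inl (htt i)
      inv_mem' := fun {a} ha i => by
        have hi : a (a⁻¹ i) = i := Equiv.apply_symm_apply a i
        rcases ha (a⁻¹ i) with e | e <;> rw [hi] at e
        · exact Or.inl e.symm
        · exact Or.inr (by rw [e, htt, ← e]) }
  have hK : IsPGroup 2 K := fun σ => ⟨1, Subtype.ext (Equiv.ext fun i => by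
    rw [pow_one, Subgroup.coe_pow, pow_two, Perm.mul_apply, Subgroup.coe_one, Perm.one_apply]
    rcases σ.2 i with e | e
    · rw [e, e]
    · rw [e]
      rcases σ.2 (t i) with e' | e'
      · rw [e']
        exact (σ : Perm (Fin (2 * k + 1))).injective (e'.trans e.symm)
      · rw [e', htt])⟩
  obtain ⟨w, hw⟩ := contains_conj hR hidx hK
  have key : ∀ i, t i ≠ i → w (t i) ≠ w i ∧ swap (w i) (w (t i)) ∈ R := fun i hi =>
    ⟨fun e => hi (w.injective e), by
      rw [swap_apply_apply]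
      refine hw _ fun j => ?_
      by_cases h1 : j = i
      · exact Or.inr (by rw [h1, swap_apply_left])
      by_cases h2 : j = t i
      · exact Or.inr (by rw [h2, swap_apply_right, htt])
      exact Or.inl (swap_apply_of_ne_of_ne h1 h2)⟩
  obtain ⟨i, rfl⟩ := w.surjective u
  by_cases hi : t i = i
  · exfalso
    obtain ⟨j, rfl⟩ := w.surjective p₀
    have hj : t j ≠ j := fun h => hu (congrArg w (Fin.ext ((htfix i hi).trans (htfix j h).symm)))
    obtain ⟨h1, h2⟩ := key j hj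
    have := hp₀ _ h2
    rw [swap_apply_left] at this
    exact h1 this
  · exact ⟨_, key i hi⟩

variable {P : Subgroup (Perm (Fin n))} (hPA : P ≤ alternatingGroup (Fin n))
  (hodd : ¬ 2 ∣ (P.subgroupOf (alternatingGroup (Fin n))).index) (hPR : P ≤ R) (hR : IsPGroup 2 R)
include hPA hodd hPR hR

/-- The even part of the overgroup. -/
theorem mem_of_even {r : Perm (Fin n)} (hr : r ∈ R) (hrA : r ∈ alternatingGroup (Fin n)) : r ∈ P := by
  haveI : Fact (Nat.Prime 2) := ⟨Nat.prime_two⟩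
  let PS : Sylow 2 ↥(alternatingGroup (Fin n)) :=
    ((hR.to_le hPR).comap_of_injective _ (alternatingGroup (Fin n)).subtype_injective :
      IsPGroup 2 ↥(P.subgroupOf (alternatingGroup (Fin n)))).toSylow hodd
  exact (PS.3 (hR.comap_of_injective _ (alternatingGroup (Fin n)).subtype_injective :
    IsPGroup 2 ↥(R.subgroupOf (alternatingGroup (Fin n)))) (fun x hx => hPR hx)).le
      (show (⟨r, hrA⟩ : ↥(alternatingGroup (Fin n))) ∈ R.subgroupOf _ from hr)

/-- With an odd element the overgroup is a Sylow subgroup of the symmetric group. -/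
theorem index_odd (hn : 2 ≤ n) {σ : Perm (Fin n)} (hσ : σ ∈ R) (hsgn : σ ∉ alternatingGroup (Fin n)) :
    ¬ 2 ∣ R.index := by
  haveI : Fact (Nat.Prime 2) := ⟨Nat.prime_two⟩
  haveI : Nontrivial (Fin n) := Fin.nontrivial_iff_two_le.2 hn
  have h1 := relIndex_mul_index hPR
  have h2 := relIndex_mul_index hPA
  rw [alternatingGroup.index_eq_two, ← h1] at h2
  have h3 : 2 ∣ P.relIndex R := by
    obtain ⟨m, hm⟩ := (hR.index (P.subgroupOf R))
    rw [relIndex, hm]
    refine dvd_pow_self 2 fun h0 => ?_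
    rw [h0, pow_zero, index_eq_one] at hm
    exact hsgn (hPA (show σ ∈ P from (hm ▸ mem_top (⟨σ, hσ⟩ : ↥R) : (⟨σ, hσ⟩ : ↥R) ∈ P.subgroupOf R)))
  intro h4
  refine hodd (Nat.dvd_of_mul_dvd_mul_right (by norm_num : 0 < 2) ?_)
  show 2 * 2 ∣ P.relIndex (alternatingGroup (Fin n)) * 2
  rw [h2]
  exact Nat.mul_dvd_mul h3 h4

omit hPA hodd hPR
variable (hidx : ¬ 2 ∣ R.index)
include hidx

/-- A Sylow subgroup has an orbit of every power of two up to the degree. -/
theorem exists_big_orbit {l : ℕ} (hl : 2 ^ l ≤ n) : ∃ j : Fin n, 2 ^ l ≤ Set.ncard (orbit R j) := by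
  classical
  haveI : Fact (Nat.Prime 2) := ⟨Nat.prime_two⟩
  rcases Nat.eq_zero_or_pos l with rfl | hl0
  · exact ⟨⟨0, by simp at hl; omega⟩, (Set.ncard_pos (Set.toFinite _)).2 ⟨_, mem_orbit_self _⟩⟩
  have hL : 2 ≤ 2 ^ l := le_trans (le_of_eq (pow_one 2).symm) (Nat.pow_le_pow_right (by norm_num) hl0)
  haveI : NeZero n := ⟨by omega⟩
  let top : Fin n := ⟨2 ^ l - 1, by omega⟩
  set c := top.cycleRange with hc
  have hcpow : c ^ 2 ^ l = 1 := by
    have ht : c.cycleType = {2 ^ l} := by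
      rw [hc, Fin.cycleType_cycleRange (by intro h; simp [top, Fin.ext_iff] at h; omega)]
      congr 1
      simp [top]; omega
    rw [← orderOf_dvd_iff_pow_eq_one, ← Perm.lcm_cycleType, ht]
    simp
  obtain ⟨w, hw⟩ := contains_conj hR hidx (K := zpowers c) (IsPGroup.of_card (p := 2)
    (show Nat.card ↥(zpowers c) = 2 ^ _ by
      rw [Nat.card_zpowers]
      exact ((Nat.dvd_prime_pow Nat.prime_two).1 (orderOf_dvd_of_pow_eq_one hcpow)).choose_spec.2))
  refine ⟨w 0, ?_⟩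
  rw [← Nat.card_coe_set_eq]
  refine le_trans (le_of_eq (by simp)) (Nat.card_le_card_of_injective
    (fun i : Fin (2 ^ l) => (⟨w ((c ^ (i : ℕ)) 0), ⟨⟨_, hw _ (pow_mem (mem_zpowers c) i)⟩, by
      show (w * c ^ (i : ℕ) * w⁻¹) (w 0) = _
      simp⟩⟩ : ↥(orbit R (w 0)))) fun a b h => ?_)
  have h1 := w.injective (congrArg Subtype.val h)
  rw [hc, cycleRange_pow_zero top a (by simp [top]; omega), cycleRange_pow_zero top b (by simp [top]; omega)] at h1
  exact Fin.ext (congrArg Fin.val h1 :)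

omit hidx
theorem orbit_subset_compl {p₀ : Fin n} (hp₀ : ∀ r ∈ R, r p₀ = p₀) {q : Fin n} (hq : q ≠ p₀) :
    orbit R q ⊆ {p₀}ᶜ := by
  rintro _ ⟨r, rfl⟩ h
  refine hq ((r : Perm (Fin n)).injective ?_)
  rw [hp₀ r r.2]
  exact h

omit hR in
theorem ncard_compl (p₀ : Fin n) : Set.ncard ({p₀}ᶜ : Set (Fin n)) = n - 1 := by
  rw [Set.ncard_compl, Set.ncard_singleton, Nat.card_eq_fintype_card, Fintype.card_fin]

include hidx

/-- In degree `2^s+1` a Sylow subgroup is transitive off its fixed point. -/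
theorem transitive_of_good {s : ℕ} (hn : n = 2 ^ s + 1) (hs : 1 ≤ s) {p₀ : Fin n} (hp₀ : ∀ r ∈ R, r p₀ = p₀)
    {a b : Fin n} (ha : a ≠ p₀) (hb : b ≠ p₀) : ∃ r ∈ R, r a = b := by
  obtain ⟨j, hj⟩ := exists_big_orbit hR hidx (l := s) (by omega)
  have h2 : 2 ≤ 2 ^ s := le_trans (le_of_eq (pow_one 2).symm) (Nat.pow_le_pow_right (by norm_num) hs)
  have hjp : j ≠ p₀ := fun e => by
    have : Set.ncard (orbit R j) ≤ 1 := by
      rw [Set.ncard_le_one_iff_subsingleton]
      rintro _ ⟨r, rfl⟩ _ ⟨r', rfl⟩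
      show (r : Perm (Fin n)) j = (r' : Perm (Fin n)) j
      rw [e, hp₀ r r.2, hp₀ r' r'.2]
    omega
  have heq : orbit R j = {p₀}ᶜ := Set.eq_of_subset_of_ncard_le (orbit_subset_compl hR hp₀ hjp)
    (by rw [ncard_compl]; omega) (Set.toFinite _)
  obtain ⟨r, hr⟩ : b ∈ orbit R a := by
    rw [orbit_eq_iff.2 (show a ∈ orbit R j by rw [heq]; exact ha), heq]; exact hb
  exact ⟨r, r.2, hr⟩

/-- Otherwise two orbits off the fixed point have different sizes. -/
theorem two_sizes {k : ℕ} (hn : n = 2 * k + 1) (hk3 : 3 ≤ k) (hk : ∀ m, 2 * k ≠ 2 ^ m) {p₀ : Fin n}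
    (hp₀ : ∀ r ∈ R, r p₀ = p₀) :
    ∃ a b, a ≠ p₀ ∧ b ≠ p₀ ∧ Set.ncard (orbit R a) ≠ Set.ncard (orbit R b) := by
  obtain ⟨l, hl1, hl2k, hl2, hlk⟩ := exists_big hk3 hk
  obtain ⟨j, hj⟩ := exists_big_orbit hR hidx (l := l) (by omega)
  have hL : 2 ≤ 2 ^ l := le_trans (le_of_eq (pow_one 2).symm) (Nat.pow_le_pow_right (by norm_num) hl1)
  have hjp : j ≠ p₀ := fun e => by
    have : Set.ncard (orbit R j) ≤ 1 := by
      rw [Set.ncard_le_one_iff_subsingleton]
      rintro _ ⟨r, rfl⟩ _ ⟨r', rfl⟩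
      show (r : Perm (Fin n)) j = (r' : Perm (Fin n)) j
      rw [e, hp₀ r r.2, hp₀ r' r'.2]
    omega
  haveI : Fact (Nat.Prime 2) := ⟨Nat.prime_two⟩
  obtain ⟨c, hc⟩ := hR.card_orbit j
  rw [Nat.card_coe_set_eq] at hc
  have hsub := Set.ncard_le_ncard (orbit_subset_compl hR hp₀ hjp) (Set.toFinite _)
  rw [ncard_compl] at hsub
  obtain ⟨b, hb, hbj⟩ : ∃ b, b ≠ p₀ ∧ b ∉ orbit R j := by
    by_contra hall
    push Not at hall
    have h1 := Set.ncard_le_ncard (show ({p₀}ᶜ : Set (Fin n)) ⊆ orbit R j from fun b hb => hall b hb)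
      (Set.toFinite _)
    rw [ncard_compl] at h1
    exact hk c (by omega)
  refine ⟨j, b, hjp, hb, fun e => ?_⟩
  have hdis : Disjoint (orbit R j) (orbit R b) := Set.disjoint_left.2 fun z hz hz' => hbj (by
    rw [← orbit_eq_iff.2 hz, orbit_eq_iff.2 hz']
    exact mem_orbit_self b)
  have h2 := Set.ncard_union_eq hdis
  have h3 := Set.ncard_le_ncard (Set.union_subset (orbit_subset_compl hR hp₀ hjp)
    (orbit_subset_compl hR hp₀ hb)) (Set.toFinite _)
  rw [h2, ncard_compl, ← e] at h3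
  omega

omit hidx hR

/-- A point has twice as many conjugates as its pair. -/
theorem ncard_orbit_eq {u v : Fin n} (hvu : v ≠ u) (H : Subgroup ↥R) (hH : stabilizer ↥R u ≤ H)
    (hsel : ∀ r ∈ H, (r : Perm (Fin n)) u = u ∨ (r : Perm (Fin n)) u = v) {s : ↥R} (hs : s ∈ H)
    (hsu : (s : Perm (Fin n)) u = v) : Set.ncard (orbit R u) = 2 * H.index := by
  rw [← index_stabilizer, ← relIndex_mul_index hH]
  congr 1
  have h1 : orbit ↥H u = {u, v} := by
    ext x
    constructor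
    · rintro ⟨r, rfl⟩
      exact hsel _ r.2
    · rintro (rfl | rfl)
      · exact mem_orbit_self _
      · exact ⟨⟨s, hs⟩, hsu⟩
  rw [relIndex, show (stabilizer ↥R u).subgroupOf H = stabilizer ↥H u from rfl, index_stabilizer, h1,
    Set.ncard_pair hvu.symm]

end Cfsg.Agent.PLocal.CStar.Assembly
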