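import Cfsg.Agent.Lib.PLocal.CStar.Assembly.AllBadMove
import Cfsg.Agent.Lib.PLocal.CStar.Assembly.AllBadPerm
import Cfsg.Agent.Lib.PLocal.CStar.TwoClassJ
import Cfsg.Agent.Lib.PLocal.Blocks.Split

/-!
For an alternating block the commutators of nearly central involutions of `J(T)` not centralizing it
are the vectors of the transpositions of `T`; the numbers of their conjugates follow the orbits of
`T` on the points.
-/

set_option linter.all false
set_option autoImplicit false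

namespace Cfsg.Agent.PLocal.CStar.Assembly

open Subgroup Cfsg Equiv MulAction
open Cfsg.Agent.PLocal.Blocks
open Cfsg.Agent.PLocal.ThompsonSubgroup
open Cfsg.Agent.PLocal.Blocks.AltModule (EvenMod act img P supp supp_P P_ne_zero P_add P_self act_injective)
open Cfsg.Agent.PLocal.BlockModule (pair permAct z2 z2')
open scoped commutatorElement

universe u

variable {n : ℕ}

theorem act_P (σ : Perm (Fin n)) (a b : Fin n) : act σ (P a b) = P (σ a) (σ b) :=
  Subtype.ext (funext fun i => by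
    show pair a b (σ⁻¹ i) = pair (σ a) (σ b) i
    simp [pair, Pi.single_apply, Equiv.symm_apply_eq])

theorem P_comm (a b : Fin n) : P a b = P b a := Subtype.ext (add_comm _ _)

theorem even_add_self (v : ↥(EvenMod n)) : v + v = 0 := Subtype.ext (funext fun i => z2' _)

theorem P_add_same (u v w : Fin n) : P v w + P u w = P u v := by
  rw [P_comm v w, P_comm u w, P_add, P_comm]

theorem eq_of_P_eq {a b u v : Fin n} (hab : a ≠ b) (h : P a b = P u v) : a = u ∨ a = v := by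
  have huv : u ≠ v := fun e => P_ne_zero hab (by rw [h, e, P_self])
  have h1 := congrArg supp h
  rw [supp_P hab, supp_P huv] at h1
  have : a ∈ ({u, v} : Finset (Fin n)) := by rw [← h1]; simp
  simpa using this

/-- A transposition moves a vector by its pair. -/
theorem swap_add {u v : Fin n} (c : ↥(EvenMod n)) (h : (c : Fin n → ZMod 2) u ≠ (c : Fin n → ZMod 2) v) :
    act (swap u v) c + c = P u v := by
  have huv : u ≠ v := fun e => h (congrArg _ e)
  have hz : ∀ a b : ZMod 2, a ≠ b → a + b = 1 ∧ b + a = 1 := by decide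
  refine Subtype.ext (funext fun i => ?_)
  show (c : Fin n → ZMod 2) ((swap u v)⁻¹ i) + (c : Fin n → ZMod 2) i = pair u v i
  rw [swap_inv]
  by_cases hu : i = u
  · subst hu
    rw [swap_apply_left, (hz _ _ h).2]
    simp [pair, Pi.single_apply, huv]
  by_cases hv : i = v
  · subst hv
    rw [swap_apply_right, (hz _ _ h).1]
    simp [pair, Pi.single_apply, huv.symm]
  rw [swap_apply_of_ne_of_ne hu hv, z2']
  simp [pair, Pi.single_apply, hu, hv]

theorem commute_swap {g : Perm (Fin n)} {a b : Fin n} (ha : g a = a) (hb : g b = b) :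
    g * swap a b = swap a b * g := by
  rw [mul_swap_eq_swap_mul, ha, hb]

variable {G : Type u} [Group G] [Finite G] {T : Sylow 2 G} {E : Subgroup G}

local notation "QE" => pCoreOf 2 E
local notation "WE" => omegaOneCenter 2 (pCoreOf 2 E)
local notation "ZE" => omegaOneCenter 2 (pCoreOf 2 E) ⊓ Subgroup.centralizer (E : Set G)
local notation "NE" => Subgroup.normalizer (E : Set G)
local notation "WC" => ⁅omegaOneCenter 2 (pCoreOf 2 E), E⁆
local notation "JT" => thompsonSubgroupOf 2 (T : Subgroup G)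

variable (T E n) in
/-- A subnormal alternating block with its action on the points. -/
structure AltData : Type u where
  hG : centralizer (pCore 2 G : Set G) ≤ pCore 2 G
  block : IsBaumannBlock 2 (T : Subgroup G) E
  sub : E.IsSubnormal
  three : 3 ≤ n
  odd : Odd n
  ρ : Rep 2 E (EvenMod n)
  range_eq : ρ.onBlock.range = img n
  π : ↥(normalizer (E : Set G)) →* Perm (Fin n)
  act_π : ∀ x, act (π x) = ρ.act x

theorem exists_altData [Fact (Nat.Prime 2)] (hG : centralizer (pCore 2 G : Set G) ≤ pCore 2 G)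
    (hE : IsBaumannBlock 2 (T : Subgroup G) E) (hEs : E.IsSubnormal) (hn : 3 ≤ n) (hodd : Odd n)
    (ρ : Rep 2 E (EvenMod n)) (hρ : ρ.onBlock.range = img n) : Nonempty (AltData n T E) := by
  have hrange : ∀ x, ρ.act x ∈ (act : Perm (Fin n) →* _).range := fun x => by
    obtain ⟨σ, hσ⟩ := AltModule.exists_perm hn hodd (g := ρ.act x) (ρ.act_add x) (hρ ▸ ρ.act_mem_normalizer x)
    exact ⟨σ, hσ.symm⟩
  exact ⟨⟨hG, hE, hEs, hn, hodd, ρ, hρ,
    (MonoidHom.ofInjective (act_injective (n := n) hn)).symm.toMonoidHom.comp (ρ.act.codRestrict _ hrange),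
    fun x => congrArg Subtype.val ((MonoidHom.ofInjective (act_injective (n := n) hn)).apply_symm_apply
      ⟨ρ.act x, hrange x⟩)⟩⟩

namespace AltData

variable [Fact (Nat.Prime 2)] (D : AltData n T E)
include D

theorem π_eq_one (x : ↥NE) : D.π x = 1 ↔ (x : G) ∈ centralizer ((WC : Subgroup G) : Set G) := by
  rw [← D.ρ.act_eq_one_iff D.block, ← D.act_π]
  exact ⟨fun h => by rw [h, map_one], fun h => act_injective (n := n) D.three (by rw [h, map_one])⟩

theorem exists_lift {σ : Perm (Fin n)} (hσ : σ ∈ alternatingGroup (Fin n)) :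
    ∃ e, ∃ he : e ∈ E, D.π ⟨e, Subgroup.le_normalizer he⟩ = σ := by
  obtain ⟨e, he⟩ : act σ ∈ D.ρ.onBlock.range := D.range_eq ▸ mem_map_of_mem _ hσ
  exact ⟨e, e.2, act_injective (n := n) D.three ((D.act_π _).trans he)⟩

theorem π_even {e : G} (he : e ∈ E) : D.π ⟨e, Subgroup.le_normalizer he⟩ ∈ alternatingGroup (Fin n) := by
  obtain ⟨σ, hσ, h⟩ : D.ρ.onBlock ⟨e, he⟩ ∈ img n := D.range_eq ▸ ⟨_, rfl⟩
  have : D.π ⟨e, Subgroup.le_normalizer he⟩ = σ := act_injective (n := n) D.three ((D.act_π _).trans h.symm)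
  rw [this]
  exact hσ

/-- The image of the Sylow subgroup of the block. -/
def sylP : Subgroup (Perm (Fin n)) :=
  ((T : Subgroup G).subgroupOf E).map (D.π.comp (Subgroup.inclusion Subgroup.le_normalizer))

/-- The image of the Sylow subgroup. -/
def sylR : Subgroup (Perm (Fin n)) := ((T : Subgroup G).subgroupOf NE).map D.π

theorem isPGroup_sylR : IsPGroup 2 D.sylR :=
  (T.isPGroup'.comap_of_injective (Subgroup.subtype NE) (Subgroup.subtype_injective _) :
    IsPGroup 2 ↥((T : Subgroup G).subgroupOf NE)).map D.π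

theorem sylP_le_alt : D.sylP ≤ alternatingGroup (Fin n) := by
  rintro _ ⟨e, -, rfl⟩
  exact D.π_even e.2

theorem sylP_le_sylR : D.sylP ≤ D.sylR := by
  rintro _ ⟨e, he, rfl⟩
  exact ⟨Subgroup.inclusion Subgroup.le_normalizer e, he, rfl⟩

theorem sylP_odd : ¬ 2 ∣ (D.sylP.subgroupOf (alternatingGroup (Fin n))).index := by
  intro h2
  refine Cores.sylow_subgroupOf_isSubnormal T D.sub (h2.trans ?_)
  show D.sylP.relIndex (alternatingGroup (Fin n)) ∣ _
  have hr : (D.π.comp (Subgroup.inclusion Subgroup.le_normalizer) : ↥E →* _).range = alternatingGroup (Fin n) := by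
    refine le_antisymm ?_ fun σ hσ => ?_
    · rintro _ ⟨e, rfl⟩; exact D.π_even e.2
    · obtain ⟨e, he, h⟩ := D.exists_lift hσ; exact ⟨⟨e, he⟩, h⟩
  rw [← hr, MonoidHom.range_eq_map, sylP, relIndex_map_map]
  rw [top_sup_eq, relIndex_top_right]
  exact index_dvd_of_le le_sup_left

theorem core_le_T : QE ≤ (T : Subgroup G) :=
  (CharP.pCoreOf_le_pCore_of_isSubnormal D.sub).trans ((CharP.isPGroup_pCore 2 G).le_sylow_of_normal T)

/-- An element of the block acting as one of `T` lies in `T`. -/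
theorem mem_T {e : G} (he : e ∈ E) (h : D.π ⟨e, Subgroup.le_normalizer he⟩ ∈ D.sylR) : e ∈ (T : Subgroup G) := by
  obtain ⟨t, ht, ht'⟩ := mem_of_even D.sylP_le_alt D.sylP_odd D.sylP_le_sylR D.isPGroup_sylR h (D.π_even he)
  have h1 : e * (t : G)⁻¹ ∈ QE := by
    rw [← inf_centralizer_eq_core D.block]
    refine ⟨E.mul_mem he (E.inv_mem t.2), (D.π_eq_one ⟨e * (t : G)⁻¹,
      Subgroup.le_normalizer (E.mul_mem he (E.inv_mem t.2))⟩).1 ?_⟩
    rw [show (⟨e * (t : G)⁻¹, _⟩ : ↥NE) = ⟨e, Subgroup.le_normalizer he⟩ *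
      (Subgroup.inclusion Subgroup.le_normalizer t)⁻¹ from rfl, map_mul, map_inv, mul_inv_eq_one]
    exact ht'.symm
  have h2 := Subgroup.mul_mem _ (D.core_le_T h1) (show (t : G) ∈ (T : Subgroup G) from ht)
  rwa [inv_mul_cancel_right] at h2

theorem max_le_NE {A : Subgroup G} (hA : A ∈ maxElementaryAbelianSubgroups 2 G) (hAT : A ≤ (T : Subgroup G)) :
    A ≤ NE :=
  (le_thompsonSubgroupOf hA hAT).trans (thompson_le_NE D.hG D.block D.sub T)

/-- The permutations induced by a subgroup. -/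
def sylA (A : Subgroup G) : Subgroup (Perm (Fin n)) := (A.subgroupOf NE).map D.π

theorem map_sylA (A : Subgroup G) : (D.sylA A).map act = D.ρ.image A := by
  rw [sylA, Subgroup.map_map, show act.comp D.π = D.ρ.act from MonoidHom.ext D.act_π]
  rfl

theorem sylA_le {A : Subgroup G} (hAT : A ≤ (T : Subgroup G)) : D.sylA A ≤ D.sylR :=
  map_mono fun x hx => hAT hx

theorem swap_mem_sylA {A : Subgroup G} (hA : A ∈ maxElementaryAbelianSubgroups 2 G) (hAT : A ≤ (T : Subgroup G))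
    {a : Perm (Fin n)} (ha : a ∈ D.sylA A) {u : Fin n} (hu : a u ≠ u) : swap u (a u) ∈ D.sylA A := by
  refine swap_mem_of_large D.odd _ ?_ ?_ ha hu
  · rintro _ ⟨a, ha, rfl⟩ _ ⟨b, hb, rfl⟩
    rw [← map_mul, ← map_mul, show a * b = b * a from
      Subtype.ext ((isElementaryAbelian_iff.mp hA.1).1 a ha b hb)]
  · have h := D.ρ.card_le_image_mul_fixed D.block hA (D.max_le_NE hA hAT)
    rw [AltModule.card_evenMod (by have := D.three; omega), ← D.map_sylA,
      card_map_of_injective (act_injective (n := n) D.three)] at h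
    refine h.trans (Nat.mul_le_mul_left _ (le_of_eq (Nat.card_congr (Equiv.subtypeEquivRight fun v => ?_))))
    show (∀ a ∈ D.ρ.image A, a v = v) ↔ _
    rw [← D.map_sylA]
    exact ⟨fun h a ha => h _ (mem_map_of_mem _ ha), fun h _ ⟨a, ha, e⟩ => e ▸ h a ha⟩

theorem exists_moved : ∃ A ∈ maxElementaryAbelianSubgroups 2 G, A ≤ (T : Subgroup G) ∧
    ∃ a ∈ D.sylA A, ∃ u, a u ≠ u := by
  obtain ⟨-, A, hA, hAT, hAC⟩ := exists_moving D.hG D.block
  obtain ⟨a, ha, haC⟩ := SetLike.not_le_iff_exists.mp hAC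
  refine ⟨A, hA, hAT, _, ⟨⟨a, D.max_le_NE hA hAT ha⟩, ha, rfl⟩, ?_⟩
  by_contra hall
  push Not at hall
  exact haC ((D.π_eq_one _).1 (Equiv.ext hall))

theorem sylR_index : ¬ 2 ∣ D.sylR.index := by
  obtain ⟨A, hA, hAT, a, ha, u, hu⟩ := D.exists_moved
  refine index_odd D.sylP_le_alt D.sylP_odd D.sylP_le_sylR D.isPGroup_sylR (by have := D.three; omega)
    (D.sylA_le hAT (D.swap_mem_sylA hA hAT ha hu)) fun h => ?_
  rw [Perm.mem_alternatingGroup, Perm.sign_swap hu.symm] at h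
  exact absurd h (by decide)

/-- The elements of `J(T)` move points only within their pairs. -/
theorem J_moves {x : G} (hxJ : x ∈ JT) (hx : x ∈ NE) (u : Fin n) (hu : D.π ⟨x, hx⟩ u ≠ u) :
    swap u (D.π ⟨x, hx⟩ u) ∈ D.sylR := by
  let K : Subgroup (Perm (Fin n)) :=
    { carrier := {σ | ∀ u, σ u = u ∨ swap u (σ u) ∈ D.sylR}
      one_mem' := fun u => Or.inl rfl
      mul_mem' := fun {a b} ha hb u => by
        rw [Perm.mul_apply]
        by_cases e : b u = u
        · rw [e]; exact ha u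
        have h1 := (hb u).resolve_left e
        by_cases e' : a (b u) = b u
        · rw [e']; exact Or.inr h1
        · exact Or.inl (swap_unique D.isPGroup_sylR e' (Ne.symm e) ((ha _).resolve_left e')
            (swap_comm u (b u) ▸ h1))
      inv_mem' := fun {a} ha u => by
        have hi : a (a⁻¹ u) = u := Equiv.apply_symm_apply a u
        rcases ha (a⁻¹ u) with e | e <;> rw [hi] at e
        · exact Or.inl e.symm
        · exact Or.inr (swap_comm (a⁻¹ u) u ▸ e) }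
  have hle : JT ≤ (K.comap D.π).map (Subgroup.subtype NE) := thompson_le T fun A hA hAT a ha =>
    ⟨⟨a, D.max_le_NE hA hAT ha⟩, fun u => by
      by_cases e : D.π ⟨a, D.max_le_NE hA hAT ha⟩ u = u
      · exact Or.inl e
      · exact Or.inr (D.sylA_le hAT (D.swap_mem_sylA hA hAT ⟨_, ha, rfl⟩ e)), rfl⟩
  obtain ⟨y, hy, e⟩ := hle hxJ
  have : y = ⟨x, hx⟩ := Subtype.ext e
  exact ((this ▸ hy : D.π ⟨x, hx⟩ ∈ K) u).resolve_left hu

theorem swap_unique' {u v w : Fin n} (hv : v ≠ u) (hw : w ≠ u) (h : swap u v ∈ D.sylR)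
    (h' : swap u w ∈ D.sylR) : v = w := swap_unique D.isPGroup_sylR hv hw h h'

theorem fixes_other {A : Subgroup G} (hA : A ∈ maxElementaryAbelianSubgroups 2 G) (hAT : A ≤ (T : Subgroup G))
    {c d : Fin n} (hcd : d ≠ c) (h : swap c d ∈ D.sylR) (hn : swap c d ∉ D.sylA A) {g : Perm (Fin n)}
    (hg : g ∈ D.sylA A) : g c = c := by
  by_contra hne
  have h1 := D.swap_mem_sylA hA hAT hg hne
  rw [D.swap_unique' hne hcd (D.sylA_le hAT h1) h] at h1
  exact hn h1

/-- Every transposition of `T` comes from `J(T)`. -/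
theorem exists_J_swap {c d : Fin n} (hcd : d ≠ c) (hσ : swap c d ∈ D.sylR) :
    ∃ x ∈ JT, ∃ hx : x ∈ NE, D.π ⟨x, hx⟩ = swap c d := by
  obtain ⟨A, hA, hAT, g₁, hg₁, a, ha⟩ := D.exists_moved
  by_cases hin : swap c d ∈ D.sylA A
  · obtain ⟨x, hx, e⟩ := hin
    exact ⟨x, le_thompsonSubgroupOf hA hAT hx, x.2, e⟩
  have hτ : swap a (g₁ a) ∈ D.sylA A := D.swap_mem_sylA hA hAT hg₁ ha
  set b := g₁ a
  have hτR := D.sylA_le hAT hτ
  have hτR' : swap b a ∈ D.sylR := swap_comm a b ▸ hτR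
  have hfc : ∀ g ∈ D.sylA A, g c = c := fun g hg => D.fixes_other hA hAT hcd hσ hin hg
  have hfd : ∀ g ∈ D.sylA A, g d = d := fun g hg => D.fixes_other hA hAT hcd.symm (swap_comm c d ▸ hσ)
    (swap_comm c d ▸ hin) hg
  have hca : c ≠ a := fun e => ha (by
    have := hfc _ hτ
    rwa [e, swap_apply_left] at this)
  have hcb : c ≠ b := fun e => ha (by
    have := hfc _ hτ
    rw [e, swap_apply_right] at this
    exact this.symm)
  have hda : d ≠ a := fun e => ha (by
    have := hfd _ hτ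
    rwa [e, swap_apply_left] at this)
  have hdb : d ≠ b := fun e => ha (by
    have := hfd _ hτ
    rw [e, swap_apply_right] at this
    exact this.symm)
  have hεA : swap a c * swap b d ∈ alternatingGroup (Fin n) := by
    rw [Perm.mem_alternatingGroup, map_mul, Perm.sign_swap hca.symm, Perm.sign_swap hdb.symm]; rfl
  obtain ⟨e, he, hπe⟩ := D.exists_lift hεA
  set ε := swap a c * swap b d with hε
  have hεa : ε a = c := by
    rw [hε, Perm.mul_apply, swap_apply_of_ne_of_ne (Ne.symm ha) hda.symm, swap_apply_left]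
  have hεb : ε b = d := by
    rw [hε, Perm.mul_apply, swap_apply_left, swap_apply_of_ne_of_ne hda hcd]
  have hconjτ : ε * swap a b * ε⁻¹ = swap c d := by rw [← swap_apply_apply, hεa, hεb]
  have hcomm : ∀ g ∈ D.sylA A, g a = a → ε * g * ε⁻¹ = g := fun g hg hga => by
    have hgb : g b = b := by
      by_contra hne
      have h1 := D.swap_unique' hne (Ne.symm ha) (D.sylA_le hAT (D.swap_mem_sylA hA hAT hg hne)) hτR'
      exact ha (g.injective (h1.trans hga.symm))
    rw [mul_inv_eq_iff_eq_mul, hε, mul_assoc, ← commute_swap hgb (hfd g hg), ← mul_assoc,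
      ← commute_swap hga (hfc g hg), mul_assoc]
  have hconj : ∀ g ∈ D.sylA A, ε * g * ε⁻¹ ∈ D.sylR := fun g hg => by
    by_cases hga : g a = a
    · rw [hcomm g hg hga]; exact D.sylA_le hAT hg
    have hgab : g a = b := D.swap_unique' hga ha (D.sylA_le hAT (D.swap_mem_sylA hA hAT hg hga)) hτR
    have hg0 : swap a b * g ∈ D.sylA A := mul_mem hτ hg
    have hg0a : (swap a b * g) a = a := by rw [Perm.mul_apply, hgab, swap_apply_right]
    have h1 : ε * g * ε⁻¹ = (ε * swap a b * ε⁻¹) * (ε * (swap a b * g) * ε⁻¹) := by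
      rw [show g = swap a b * (swap a b * g) by rw [← mul_assoc, swap_mul_self, one_mul]]
      simp [mul_assoc]
    rw [h1, hconjτ, hcomm _ hg0 hg0a]
    exact mul_mem hσ (D.sylA_le hAT hg0)
  have heN : e ∈ NE := Subgroup.le_normalizer he
  have hA' := mem_maxElementaryAbelian_map_equiv (MulAut.conj e) hA
  have hA'T : A.map (MulAut.conj e).toMonoidHom ≤ (T : Subgroup G) := by
    rintro _ ⟨g, hg, rfl⟩
    show e * g * e⁻¹ ∈ (T : Subgroup G)
    have hgN := D.max_le_NE hA hAT hg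
    have hm : ⁅e, g⁆ ∈ E := by
      rw [commutatorElement_def, mul_assoc (e * g), mul_assoc e, ← mul_assoc g]
      exact mul_mem he ((mem_normalizer_iff.mp hgN _).mp (inv_mem he))
    have h1 : ⁅e, g⁆ ∈ (T : Subgroup G) := D.mem_T hm (by
      rw [show (⟨⁅e, g⁆, Subgroup.le_normalizer hm⟩ : ↥NE) = ⟨e, heN⟩ * ⟨g, hgN⟩ * ⟨e, heN⟩⁻¹ * ⟨g, hgN⟩⁻¹ from rfl,
        map_mul, map_mul, map_mul, map_inv, map_inv, hπe]
      exact mul_mem (hconj _ ⟨⟨g, hgN⟩, hg, rfl⟩) (inv_mem (D.sylA_le hAT ⟨⟨g, hgN⟩, hg, rfl⟩)))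
    have := mul_mem h1 (hAT hg)
    rwa [commutatorElement_def, inv_mul_cancel_right] at this
  obtain ⟨y, hy, hπy⟩ := hτ
  refine ⟨e * y * e⁻¹, le_thompsonSubgroupOf hA' hA'T ⟨y, hy, rfl⟩,
    mul_mem (mul_mem heN y.2) (inv_mem heN), ?_⟩
  rw [show (⟨e * y * e⁻¹, _⟩ : ↥NE) = ⟨e, heN⟩ * y * ⟨e, heN⟩⁻¹ from rfl, map_mul, map_mul, map_inv, hπe, hπy]
  exact hconjτ

variable {p₀ : Fin n} (hp₀ : ∀ r ∈ D.sylR, r p₀ = p₀)
include hp₀

theorem ne_fixed {u v : Fin n} (hvu : v ≠ u) (h : swap u v ∈ D.sylR) : u ≠ p₀ := fun e => by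
  have := hp₀ _ h
  rw [← e, swap_apply_left] at this
  exact hvu this

theorem card_image_mul_fixed_le {A : Subgroup G} (hA : A ∈ maxElementaryAbelianSubgroups 2 G)
    (hAT : A ≤ (T : Subgroup G)) :
    Nat.card (D.ρ.image A) * Nat.card (D.ρ.fixedAdd A) ≤ Nat.card (EvenMod n) := by
  classical
  rw [← D.map_sylA, card_map_of_injective (act_injective (n := n) D.three), ← Nat.card_prod]
  let d : ↥(D.sylA A) → ↥(EvenMod n) := fun g =>
    ∑ i ∈ Finset.univ.filter (fun i => i < (g : Perm (Fin n)) i), P i p₀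
  have hd : ∀ g i, i ≠ p₀ →
      (d g : Fin n → ZMod 2) i = if i < (g : Perm (Fin n)) i then 1 else 0 := fun g i hi => by
    simp only [d, AddSubgroup.val_finsetSum, Finset.sum_apply, P, pair, Pi.add_apply, Pi.single_apply,
      if_neg hi, add_zero, Finset.sum_ite_eq, Finset.mem_filter, Finset.mem_univ, true_and]
  refine Nat.card_le_card_of_injective (fun q => q.2.1 + d q.1) ?_
  rintro ⟨g, v, hv⟩ ⟨g', v', hv'⟩ h
  have hinv : ∀ (g : ↥(D.sylA A)) i, (g : Perm (Fin n)) ((g : Perm (Fin n)) i) = i := fun g i => by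
    obtain ⟨_, a, ha, rfl⟩ := g
    rw [← Perm.mul_apply, ← map_mul, show a * a = 1 from Subtype.ext (by
      rw [← pow_two]; exact (isElementaryAbelian_iff.mp hA.1).2 a ha), map_one, Perm.one_apply]
  have hval : ∀ i, i ≠ p₀ → (v : Fin n → ZMod 2) i + (if i < (g : Perm (Fin n)) i then 1 else 0) =
      (v' : Fin n → ZMod 2) i + (if i < (g' : Perm (Fin n)) i then 1 else 0) := fun i hi => by
    rw [← hd g i hi, ← hd g' i hi]
    exact congrArg (fun w : ↥(EvenMod n) => (w : Fin n → ZMod 2) i) h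
  have hconst : ∀ (w : ↥(EvenMod n)) (hw : w ∈ D.ρ.fixedAdd A) (g : ↥(D.sylA A)) i,
      (w : Fin n → ZMod 2) ((g : Perm (Fin n)) i) = (w : Fin n → ZMod 2) i := fun w hw g i => by
    have h1 := congrArg (fun w : ↥(EvenMod n) => (w : Fin n → ZMod 2) ((g : Perm (Fin n)) i))
      (hw _ (D.map_sylA A ▸ mem_map_of_mem act g.2))
    change (w : Fin n → ZMod 2) ((g : Perm (Fin n))⁻¹ ((g : Perm (Fin n)) i)) = _ at h1
    simpa using h1.symm
  -- the smaller point of a pair determines the rest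
  have key : ∀ (g g' : ↥(D.sylA A)) (v v' : ↥(EvenMod n)), v ∈ D.ρ.fixedAdd A → v' ∈ D.ρ.fixedAdd A →
      (∀ i, i ≠ p₀ → (v : Fin n → ZMod 2) i + (if i < (g : Perm (Fin n)) i then 1 else 0) =
        (v' : Fin n → ZMod 2) i + (if i < (g' : Perm (Fin n)) i then 1 else 0)) →
      ∀ i, i < (g : Perm (Fin n)) i → (g' : Perm (Fin n)) i = (g : Perm (Fin n)) i := by
    intro g g' v v' hv hv' hval i hi
    set j := (g : Perm (Fin n)) i with hj
    have hsw := D.sylA_le hAT (D.swap_mem_sylA hA hAT g.2 (Ne.symm hi.ne : j ≠ i))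
    have hip : i ≠ p₀ := D.ne_fixed hp₀ hi.ne' hsw
    have hjp : j ≠ p₀ := D.ne_fixed hp₀ hi.ne (swap_comm i j ▸ hsw)
    have hpart : ∀ (k : Fin n), (g' : Perm (Fin n)) k ≠ k → (k = i → (g' : Perm (Fin n)) k = j) ∧
        (k = j → (g' : Perm (Fin n)) k = i) := fun k hk =>
      ⟨fun e => e ▸ D.swap_unique' (e ▸ hk) hi.ne' (e ▸ D.sylA_le hAT (D.swap_mem_sylA hA hAT g'.2 hk)) hsw,
        fun e => e ▸ D.swap_unique' (e ▸ hk) hi.ne (e ▸ D.sylA_le hAT (D.swap_mem_sylA hA hAT g'.2 hk))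
          (swap_comm i j ▸ hsw)⟩
    have hj0 : ¬ j < (g' : Perm (Fin n)) j := fun h => by
      rw [(hpart j h.ne').2 rfl] at h
      exact lt_asymm hi h
    have e1 := hval i hip
    have e2 := hval j hjp
    rw [if_neg (by rw [hj, hinv]; exact lt_asymm hi), if_neg hj0, add_zero, add_zero, hconst v hv g] at e2
    rw [if_pos hi, e2, hj, hconst v' hv' g] at e1
    by_cases h' : i < (g' : Perm (Fin n)) i
    · exact (hpart i h'.ne').1 rfl
    · rw [if_neg h', add_zero, add_eq_left] at e1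
      exact absurd e1 one_ne_zero
  have hgg : g = g' := by
    refine Subtype.ext (Equiv.ext fun i => ?_)
    have hval' : ∀ i, i ≠ p₀ → _ = _ := fun i hi => (hval i hi).symm
    rcases lt_trichotomy i ((g : Perm (Fin n)) i) with hi | hi | hi
    · exact (key g g' v v' hv hv' hval i hi).symm
    · rcases lt_trichotomy i ((g' : Perm (Fin n)) i) with hi' | hi' | hi'
      · exact key g' g v' v hv' hv hval' i hi'
      · exact hi.symm.trans hi'
      · have h1 := key g' g v' v hv' hv hval' _ (by rw [hinv]; exact hi')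
        rw [hinv] at h1
        exact absurd ((g : Perm (Fin n)).injective (h1.trans hi)) hi'.ne
    · have h1 := key g g' v v' hv hv' hval _ (by rw [hinv]; exact hi)
      rw [hinv] at h1
      conv_rhs => arg 2; rw [← h1]
      exact (hinv g' _).symm
  subst hgg
  exact Prod.ext rfl (Subtype.ext (add_right_cancel (show v + d g = v' + d g from h)))

omit hp₀

theorem WE_eq : WE = WC := (core_facts D.block).2

theorem WC_le : (WC : Subgroup G) ≤ WE := D.WE_eq.ge

theorem coord_eq {v w : G} (hv : v ∈ WE) (hw : w ∈ WE) : D.ρ.coord ⟨v, hv⟩ = D.ρ.coord ⟨w, hw⟩ ↔ v = w := by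
  refine ⟨fun h => ?_, fun h => congrArg D.ρ.coord (Subtype.ext h)⟩
  have h1 := D.ρ.coord_eq_iff.1 h
  have h2 : v * w⁻¹ ∈ (WC : Subgroup G) ⊓ centralizer (E : Set G) := ⟨D.WE_eq.le h1.1, h1.2⟩
  rw [inf_eq_bot_of_alt D.ρ rfl D.block D.three D.odd D.range_eq, mem_bot, mul_inv_eq_one] at h2
  exact h2

theorem coord_comm' (x : ↥NE) {w : G} (hw : w ∈ WE) :
    D.ρ.coord ⟨⁅w, (x : G)⁆, comm_mem_WE' x.2 hw⟩ =
      act (D.π x) (D.ρ.coord ⟨w, hw⟩) + D.ρ.coord ⟨w, hw⟩ := by
  rw [D.act_π, ← coord_comm D.ρ x hw]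
  congr 1
  refine Subtype.ext ?_
  show ⁅w, (x : G)⁆ = ⁅(x : G), w⁆
  have h := BlockLocation.pow_eq_one_of_mem_omegaCenter _ (comm_mem_WE x.2 hw : ⁅(x : G), w⁆ ∈ WE)
  rw [← commutatorElement_inv]
  exact inv_eq_of_mul_eq_one_right (by rw [← pow_two]; exact h)

include hp₀

theorem hmax : ∀ A ∈ maxElementaryAbelianSubgroups 2 G, A ≤ (T : Subgroup G) →
    ¬ A ≤ centralizer ((WC : Subgroup G) : Set G) →
    A ⊓ centralizer ((WC : Subgroup G) : Set G) ⊔ (WC : Subgroup G) ∈ maxElementaryAbelianSubgroups 2 G :=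
  fun A hA hAT _ => max_sup D.block D.ρ hA (D.max_le_NE hA hAT) (D.card_image_mul_fixed_le hp₀ hA hAT)

theorem WC_le_J : (WC : Subgroup G) ≤ JT := by
  obtain ⟨hWT, A, hA, hAT, hAC⟩ := exists_moving D.hG D.block
  exact le_sup_right.trans
    (le_thompsonSubgroupOf (D.hmax hp₀ A hA hAT hAC) (sup_le (inf_le_left.trans hAT) hWT))

/-- The commutators not centralizing the block are vectors of transpositions of `T`. -/
theorem pp_pair {z : ↥(T : Subgroup G)} (hz : IsPP z) (hzC : (z : G) ∉ centralizer (E : Set G)) :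
    ∃ u v, v ≠ u ∧ swap u v ∈ D.sylR ∧ ∃ hzW : (z : G) ∈ WE, D.ρ.coord ⟨_, hzW⟩ = P u v := by
  have hz1 : (z : G) ≠ 1 := fun e => hz.1 (Subtype.ext e)
  obtain ⟨hzW, h⟩ := pp_shape D.hG D.block D.sub (D.hmax hp₀) hz hzC
  have hzW' : (z : G) ∈ WE := D.WC_le hzW
  have h0 : ∀ {g : G} (hg : g ∈ WE), D.ρ.coord ⟨g, hg⟩ ≠ 0 → g ≠ 1 := fun hg h e =>
    h (D.ρ.coord_eq_zero.2 (by subst e; exact one_mem _))
  rcases h with ⟨x, hxJ, hxN, hxC, hval⟩ | ⟨A, hA, hAT, w, hw, ⟨a, ha, hwa⟩, hval⟩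
  · obtain ⟨u, hu⟩ : ∃ u, D.π ⟨x, hxN⟩ u ≠ u := by
      by_contra hall
      push Not at hall
      exact hxC ((D.π_eq_one _).1 (Equiv.ext hall))
    have hsw := D.J_moves hxJ hxN u hu
    have hxR : D.π ⟨x, hxN⟩ ∈ D.sylR := ⟨_, thompsonSubgroupOf_le (T : Subgroup G) hxJ, rfl⟩
    refine ⟨u, _, hu, hsw, hzW', ?_⟩
    obtain ⟨⟨w, hw⟩, hwc⟩ := D.ρ.coord_surjective (P u p₀)
    have h1 := coord_comm D.ρ ⟨x, hxN⟩ hw
    rw [hwc, ← D.act_π, act_P, hp₀ _ hxR, P_add_same] at h1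
    rcases hval w (D.WE_eq.le hw) with e | e
    · exact absurd e (h0 _ (h1 ▸ P_ne_zero (Ne.symm hu)))
    · rw [← h1]
      exact congrArg D.ρ.coord (Subtype.ext e.symm)
  · have haN := D.max_le_NE hA hAT ha
    set c := D.ρ.coord ⟨w, D.WC_le hw⟩ with hc
    obtain ⟨i, hi⟩ : ∃ i, (c : Fin n → ZMod 2) ((D.π ⟨a, haN⟩)⁻¹ i) ≠ (c : Fin n → ZMod 2) i := by
      by_contra hall
      push Not at hall
      have h1 := D.coord_comm' ⟨a, haN⟩ (D.WC_le hw)
      rw [show act (D.π ⟨a, haN⟩) c = c from Subtype.ext (funext hall), even_add_self] at h1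
      refine hz1 (hwa ▸ (D.coord_eq (comm_mem_WE' haN (D.WC_le hw)) (one_mem _)).1 ?_)
      rw [h1]
      exact (D.ρ.coord_eq_zero.2 (one_mem _)).symm
    set σ := D.π ⟨a, haN⟩ with hσ
    set u := σ⁻¹ i with hu
    have hui : σ u = i := Equiv.apply_symm_apply σ i
    have hne : σ u ≠ u := fun e => hi (by rw [← hui, e])
    have hsw := D.swap_mem_sylA hA hAT (a := σ) ⟨⟨a, haN⟩, ha, rfl⟩ hne
    rw [hui] at hsw
    refine ⟨u, i, fun e => hi (by rw [← e]), D.sylA_le hAT hsw, hzW', ?_⟩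
    obtain ⟨a', ha', hπ⟩ := hsw
    have h1 := D.coord_comm' a' (D.WC_le hw)
    rw [hπ, swap_add c hi] at h1
    rcases hval a' ha' with e | e
    · exact absurd e (h0 _ (h1 ▸ P_ne_zero (fun e => hi (by rw [← e]))))
    · rw [← h1]
      exact congrArg D.ρ.coord (Subtype.ext e.symm)

/-- Every transposition of `T` gives such a commutator. -/
theorem exists_pp {u v : Fin n} (hvu : v ≠ u) (h : swap u v ∈ D.sylR) :
    ∃ z : ↥(T : Subgroup G), IsPP z ∧ ∃ hzW : (z : G) ∈ WE, D.ρ.coord ⟨_, hzW⟩ = P u v := by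
  obtain ⟨x, hxJ, hxN, hπ⟩ := D.exists_J_swap hvu h
  obtain ⟨⟨w, hw⟩, hwc⟩ := D.ρ.coord_surjective (P u p₀)
  obtain ⟨w', hw', rfl⟩ : ∃ w' ∈ thompsonSubgroup 2 ↥(T : Subgroup G), ((w' : ↥(T : Subgroup G)) : G) = w :=
    D.WC_le_J hp₀ (D.WE_eq.le hw)
  obtain ⟨x', hx', rfl⟩ := hxJ
  have hval : ∀ (g : G) (hg : g ∈ NE), g ∈ JT →
      D.ρ.coord ⟨⁅(w' : G), g⁆, comm_mem_WE' hg hw⟩ = P (D.π ⟨g, hg⟩ u) u := fun g hg hgJ => by
    rw [D.coord_comm' ⟨g, hg⟩ hw, hwc, act_P, hp₀ _ ⟨⟨g, hg⟩, thompsonSubgroupOf_le (T : Subgroup G) hgJ, rfl⟩, P_add_same,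
      P_comm]
  have hz := hval _ hxN (mem_map_of_mem _ hx')
  rw [hπ, swap_apply_left, P_comm] at hz
  have hz1 : (⁅w', x'⁆ : ↥(T : Subgroup G)) ≠ 1 := fun e => P_ne_zero hvu.symm (hz ▸ D.ρ.coord_eq_zero.2 (by
    show ⁅(w' : G), (x' : G)⁆ ∈ ZE
    rw [show ⁅(w' : G), (x' : G)⁆ = 1 from congrArg Subtype.val e]; exact one_mem _))
  refine ⟨⁅w', x'⁆, ⟨hz1, w', hw', Subtype.ext (by
    rw [Subgroup.coe_mul, ← pow_two]; exact BlockLocation.pow_eq_one_of_mem_omegaCenter _ hw),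
    ⟨x', hx', rfl⟩, fun g hg => ?_⟩, comm_mem_WE' hxN hw, hz⟩
  have hgJ : (g : G) ∈ JT := mem_map_of_mem _ hg
  have hgN := thompson_le_NE D.hG D.block D.sub T hgJ
  have h1 := hval _ hgN hgJ
  by_cases e : D.π ⟨g, hgN⟩ u = u
  · refine Or.inl (Subtype.ext ((D.coord_eq (comm_mem_WE' hgN hw) (one_mem _)).1 ?_))
    rw [h1, e, P_self]
    exact (D.ρ.coord_eq_zero.2 (one_mem _)).symm
  · refine Or.inr (Subtype.ext ((D.coord_eq (comm_mem_WE' hgN hw) (comm_mem_WE' hxN hw)).1 ?_))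
    rw [h1, hz, D.swap_unique' e hvu (D.J_moves hgJ hgN u e) h, P_comm]

omit hp₀

/-- The number of conjugates of a vector of a transposition. -/
theorem two_index {u v : Fin n} (hvu : v ≠ u) (h : swap u v ∈ D.sylR) {z : ↥(T : Subgroup G)}
    (hzW : (z : G) ∈ WE) (hc : D.ρ.coord ⟨_, hzW⟩ = P u v) :
    2 * (centralizer ({z} : Set ↥(T : Subgroup G))).index =
      Set.ncard (orbit D.sylR u) * ((NE).subgroupOf (T : Subgroup G)).index := by
  set H := (NE).subgroupOf (T : Subgroup G) with hH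
  set C := centralizer ({z} : Set ↥(T : Subgroup G))
  have hzC : (z : G) ∉ centralizer (E : Set G) := fun hzc => P_ne_zero hvu.symm (hc ▸ D.ρ.coord_eq_zero.2 ⟨hzW, hzc⟩)
  have hCH : C ≤ H := by
    intro t ht
    show (t : G) ∈ NE
    rcases conjugates_commute D.hG D.block D.sub (t : G) with e | e
    · exact cj_eq_self.mp e
    · refine absurd ?_ hzC
      have h1 := (commutator_eq_bot_iff_le_centralizer.mp e) (conj_mem_cj (WC_le_block E (D.WE_eq.le hzW)))
      have h2 : (t : G) * z = z * t := congrArg Subtype.val (mem_centralizer_singleton_iff.1 ht)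
      rwa [h2, mul_inv_cancel_right] at h1
  let φ : ↥H →* ↥D.sylR := (D.π.comp
    ({ toFun := fun t => ⟨((t : ↥(T : Subgroup G)) : G), t.2⟩
       map_one' := rfl
       map_mul' := fun _ _ => rfl } : ↥H →* ↥NE)).codRestrict _ fun t => ⟨_, (t : ↥(T : Subgroup G)).2, rfl⟩
  have hφ : Function.Surjective φ := by
    rintro ⟨_, t, ht, rfl⟩
    exact ⟨⟨⟨t, ht⟩, t.2⟩, rfl⟩
  let Hst : Subgroup ↥D.sylR := (stabilizer (Perm ↥(EvenMod n)) (P u v)).comap (act.comp D.sylR.subtype)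
  have hCeq : C.subgroupOf H = Hst.comap φ := by
    ext t
    rw [mem_subgroupOf, mem_centralizer_singleton_iff, mem_comap]
    show _ ↔ act (D.π _) (P u v) = P u v
    rw [← hc, D.act_π, D.ρ.act_coord, D.coord_eq]
    constructor
    · intro e
      have e' : ((t : ↥(T : Subgroup G)) : G) * z = z * (t : ↥(T : Subgroup G)) := congrArg Subtype.val e
      show ((t : ↥(T : Subgroup G)) : G) * z * ((t : ↥(T : Subgroup G)) : G)⁻¹ = z
      rw [e', mul_inv_cancel_right]
    · exact fun e => Subtype.ext (mul_inv_eq_iff_eq_mul.1 e)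
  have hmem : ∀ r : ↥D.sylR, r ∈ Hst ↔ P ((r : Perm (Fin n)) u) ((r : Perm (Fin n)) v) = P u v := fun r => by
    rw [← act_P]; rfl
  have horb : Set.ncard (orbit D.sylR u) = 2 * Hst.index := by
    refine ncard_orbit_eq hvu Hst (fun r hr => ?_) (fun r hr => ?_) (s := ⟨_, h⟩) ?_ (swap_apply_left u v)
    · have hru : (r : Perm (Fin n)) u = u := hr
      have hc' : swap u ((r : Perm (Fin n)) v) ∈ D.sylR := by
        have h1 := swap_apply_apply (r : Perm (Fin n)) u v
        rw [hru] at h1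
        rw [h1]
        exact mul_mem (mul_mem r.2 h) (inv_mem r.2)
      have hne : (r : Perm (Fin n)) v ≠ u := fun e => hvu ((r : Perm (Fin n)).injective (e.trans hru.symm))
      rw [hmem, hru, D.swap_unique' hne hvu hc' h]
    · exact eq_of_P_eq (fun e => hvu ((r : Perm (Fin n)).injective e).symm) ((hmem r).1 hr)
    · rw [hmem]
      show P (swap u v u) (swap u v v) = _
      rw [swap_apply_left, swap_apply_right, P_comm]
  rw [← relIndex_mul_index hCH, relIndex, hCeq, index_comap_of_surjective _ hφ, horb, mul_assoc]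

end AltData

end Cfsg.Agent.PLocal.CStar.Assembly
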