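import Cfsg.Agent.Lib.PLocal.ThompsonSubgroup
import Cfsg.Agent.Lib.PLocal.CStar.Assembly.Near

/-!
Characteristic subgroups generated by commutators of nearly central involutions of the Thompson
subgroup, sorted by the number of their conjugates; `C*(G,T) ≤ C(G,T)` for every prime.
-/

set_option linter.all false
set_option autoImplicit false

namespace Cfsg.Agent.PLocal.CStar.Assembly

open Subgroup Cfsg
open scoped commutatorElement

universe u

/-- `z` is the only nontrivial commutator with `J(P)` of an involution of `J(P)`. -/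
def IsPP {P : Type u} [Group P] (z : P) : Prop :=
  z ≠ 1 ∧ ∃ x ∈ thompsonSubgroup 2 P, x * x = 1 ∧ (∃ y ∈ thompsonSubgroup 2 P, ⁅x, y⁆ = z) ∧
    ∀ u ∈ thompsonSubgroup 2 P, ⁅x, u⁆ = 1 ∨ ⁅x, u⁆ = z

theorem IsPP.mem_thompson {P : Type u} [Group P] {z : P} (h : IsPP z) : z ∈ thompsonSubgroup 2 P := by
  obtain ⟨-, x, hx, -, ⟨y, hy, rfl⟩, -⟩ := h
  exact mul_mem (mul_mem (mul_mem hx hy) (inv_mem hx)) (inv_mem hy)

theorem IsPP.map {P Q : Type u} [Group P] [Group Q] (φ : P ≃* Q) {z : P} (h : IsPP z) : IsPP (φ z) := by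
  obtain ⟨h1, x, hx, hxx, ⟨y, hy, hxy⟩, hu⟩ := h
  have hJ := ThompsonSubgroup.map_thompsonSubgroup_equiv (p := 2) φ
  refine ⟨fun e => h1 (φ.injective (e.trans (map_one φ).symm)), φ x, hJ ▸ mem_map_of_mem φ.toMonoidHom hx,
    by rw [← map_mul, hxx, map_one], ⟨φ y, hJ ▸ mem_map_of_mem φ.toMonoidHom hy, by rw [← map_commutatorElement, hxy]⟩,
    fun u hu' => ?_⟩
  rw [← hJ] at hu'
  obtain ⟨u', hu'', rfl⟩ := hu'
  rw [MulEquiv.coe_toMonoidHom, ← map_commutatorElement]
  exact (hu u' hu'').imp (fun e => by rw [e, map_one]) fun e => by rw [e]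

theorem index_centralizer_map {P : Type u} [Group P] (φ : P ≃* P) (z : P) :
    (centralizer ({φ z} : Set P)).index = (centralizer ({z} : Set P)).index := by
  rw [← index_map_equiv (centralizer ({z} : Set P)) φ]
  congr 1
  ext x
  constructor
  · intro hx
    refine ⟨φ.symm x, mem_centralizer_singleton_iff.2 (φ.injective ?_), φ.apply_symm_apply x⟩
    rw [map_mul, map_mul, φ.apply_symm_apply]
    exact mem_centralizer_singleton_iff.1 hx
  · rintro ⟨y, hy, rfl⟩
    refine mem_centralizer_singleton_iff.2 ?_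
    show φ y * φ z = φ z * φ y
    rw [← map_mul, ← map_mul, mem_centralizer_singleton_iff.1 hy]

/-- The subgroup generated by the `z` with `c` conjugates. -/
def ppClass (P : Type u) [Group P] (c : ℕ) : Subgroup P :=
  closure {z | IsPP z ∧ (centralizer ({z} : Set P)).index = c}

theorem ppClass_char (P : Type u) [Group P] (c : ℕ) : (ppClass P c).Characteristic :=
  characteristic_iff_map_le.2 fun φ => by
    rw [ppClass, MonoidHom.map_closure]
    refine closure_mono ?_
    rintro _ ⟨z, ⟨hz, hc⟩, rfl⟩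
    exact ⟨hz.map φ, (index_centralizer_map φ z).trans hc⟩

variable {G : Type u} [Group G] {T : Subgroup G}

/-- Normalizers of characteristic subgroups, given inside `T`. -/
theorem le_charJoin {C : Subgroup ↥T} (hC : C ≠ ⊥) (hc : C.Characteristic) :
    normalizer ((C.map T.subtype : Subgroup G) : Set G) ≤ charNormalizersJoin T := by
  refine le_iSup (fun D : {D : Subgroup G // D ≤ T ∧ D ≠ ⊥ ∧ (D.subgroupOf T).Characteristic} =>
    normalizer ((D : Subgroup G) : Set G)) ⟨C.map T.subtype, map_subtype_le _, ?_, ?_⟩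
  · rwa [Ne, map_eq_bot_iff_of_injective _ T.subtype_injective]
  · rw [subgroupOf, comap_map_eq_self_of_injective T.subtype_injective]
    exact hc

theorem charCore_le_charJoin : charCore T ≤ charNormalizersJoin T :=
  iSup_le fun C => le_charJoin C.2.1 C.2.2

/-- A group centralizing all `z` with `c` conjugates lies in `C(G,T)`. -/
theorem le_charJoin_of_class {F : Subgroup G} {z : ↥T} (hz : IsPP z) {c : ℕ}
    (hc : (centralizer ({z} : Set ↥T)).index = c)
    (h : ∀ z' : ↥T, IsPP z' → (centralizer ({z'} : Set ↥T)).index = c → (z' : G) ∈ centralizer (F : Set G)) :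
    F ≤ charNormalizersJoin T := by
  refine le_trans (le_trans ?_ (centralizer_le_normalizer _))
    (le_charJoin (C := ppClass ↥T c) (fun e => hz.1 (mem_bot.1 (e ▸ subset_closure ⟨hz, hc⟩))) (ppClass_char _ c))
  rw [le_centralizer_iff, ppClass, MonoidHom.map_closure, closure_le]
  rintro _ ⟨z', ⟨h1, h2⟩, rfl⟩
  exact h z' h1 h2

variable [Finite G] {p : ℕ} [Fact p.Prime]

/-- `C*(G,T) ≤ C(G,T)`. -/
theorem cStar_le_charJoin (T : Sylow p G) (hT : (T : Subgroup G) ≠ ⊥) :
    cStarOf p (T : Subgroup G) ≤ charNormalizersJoin (T : Subgroup G) := by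
  set T₀ := (T : Subgroup G)
  have htop : (⊤ : Subgroup ↥T₀).map T₀.subtype = T₀ := by
    rw [← MonoidHom.range_eq_map, range_subtype]
  refine sup_le ?_ (iSup_le fun C => ?_)
  · set Z := omegaOneCenter p (⊤ : Subgroup ↥T₀)
    have hZmap : Z.map T₀.subtype = omegaOneCenter p T₀ := by
      rw [map_omegaOneCenter T₀.subtype_injective, htop]
    have hZne : Z ≠ ⊥ := by
      haveI : Nontrivial ↥T₀ := (Subgroup.nontrivial_iff_ne_bot _).2 hT
      haveI := T.isPGroup'.center_nontrivial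
      obtain ⟨n, hn, hc⟩ := (T.isPGroup'.to_subgroup (center ↥T₀)).nontrivial_iff_card.1 inferInstance
      obtain ⟨g, hg⟩ := exists_prime_orderOf_dvd_card' (G := ↥(center ↥T₀)) p (hc ▸ dvd_pow_self p hn.ne')
      intro e
      have hmem : (g : ↥T₀) ∈ Z := subset_closure ⟨⟨trivial, mem_centralizer_iff.2 fun y _ =>
        mem_center_iff.1 g.2 y⟩, by rw [← Subgroup.coe_pow, ← hg, pow_orderOf_eq_one]; rfl⟩
      rw [e, mem_bot] at hmem
      have h1 : g = 1 := Subtype.ext hmem
      rw [h1, orderOf_one] at hg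
      exact (Fact.out : p.Prime).one_lt.ne hg
    have hZc : Z.Characteristic := characteristic_iff_map_eq.2 fun φ => by
      rw [map_omegaOneCenter φ.injective]
      congr 1
      exact map_top_of_surjective _ φ.surjective
    refine le_trans ?_ (le_charJoin hZne hZc)
    rw [hZmap]
    exact centralizer_le_normalizer _
  · obtain ⟨C, hCB, hC, hchar⟩ := C
    set B := baumannSubgroupOf p T₀
    have hBT : B ≤ T₀ := BlockBasic.baumann_le _
    have hB' : (baumannSubgroupOf p (⊤ : Subgroup ↥T₀)).map T₀.subtype = B := by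
      rw [map_baumann T₀.subtype_injective, htop]
    have hB1 : (baumannSubgroupOf p (⊤ : Subgroup ↥T₀)) = B.subgroupOf T₀ := by
      rw [← hB', subgroupOf, comap_map_eq_self_of_injective T₀.subtype_injective]
    have hBc : (B.subgroupOf T₀).Characteristic := characteristic_iff_map_eq.2 fun φ => by
      rw [← hB1, map_baumann φ.injective]
      congr 1
      exact map_top_of_surjective _ φ.surjective
    refine le_iSup (fun D : {D : Subgroup G // D ≤ T₀ ∧ D ≠ ⊥ ∧ (D.subgroupOf T₀).Characteristic} =>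
      normalizer ((D : Subgroup G) : Set G)) ⟨C, hCB.trans hBT, hC, characteristic_iff_map_le.2 fun φ => ?_⟩
    rintro _ ⟨c, hc, rfl⟩
    have hφ : ∀ ψ : ↥T₀ ≃* ↥T₀, ∀ b (hb : b ∈ B), ((ψ ⟨b, hBT hb⟩ : ↥T₀) : G) ∈ B := fun ψ b hb =>
      mem_subgroupOf.1 (characteristic_iff_map_le.1 hBc ψ ⟨⟨b, hBT hb⟩, mem_subgroupOf.2 hb, rfl⟩)
    let ψ : ↥B ≃* ↥B :=
      { toFun := fun b => ⟨_, hφ φ b.1 b.2⟩
        invFun := fun b => ⟨_, hφ φ.symm b.1 b.2⟩
        left_inv := fun b => Subtype.ext (show ((φ.symm (φ ⟨b.1, hBT b.2⟩) : ↥T₀) : G) = b.1 by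
          rw [MulEquiv.symm_apply_apply])
        right_inv := fun b => Subtype.ext (show ((φ (φ.symm ⟨b.1, hBT b.2⟩) : ↥T₀) : G) = b.1 by
          rw [MulEquiv.apply_symm_apply])
        map_mul' := fun a b => Subtype.ext (show ((φ (⟨a.1, hBT a.2⟩ * ⟨b.1, hBT b.2⟩) : ↥T₀) : G) =
          ((φ ⟨a.1, hBT a.2⟩ * φ ⟨b.1, hBT b.2⟩ : ↥T₀) : G) by rw [map_mul]) }
    have h1 := characteristic_iff_map_le.1 hchar ψ ⟨⟨(c : G), hCB hc⟩, mem_subgroupOf.2 hc, rfl⟩
    exact mem_subgroupOf.2 (mem_subgroupOf.1 h1)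

end Cfsg.Agent.PLocal.CStar.Assembly
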