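import Cfsg.Agent.Lib.PLocal.CStar.Assembly.AllBadGroup
import Cfsg.Agent.Lib.PLocal.Blocks.Offending

/-!
A commutator of a nearly central involution of `J(T)` either centralizes a block or comes from its
module.
-/

set_option linter.all false
set_option autoImplicit false

namespace Cfsg.Agent.PLocal.CStar.Assembly

open Subgroup Cfsg
open Cfsg.Agent.PLocal.Blocks
open Cfsg.Agent.PLocal.ThompsonSubgroup
open scoped commutatorElement

universe u

variable {G : Type u} [Group G] [Finite G] {T : Sylow 2 G} {E : Subgroup G} [Fact (Nat.Prime 2)]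

local notation "QE" => pCoreOf 2 E
local notation "WE" => omegaOneCenter 2 (pCoreOf 2 E)
local notation "ZE" => omegaOneCenter 2 (pCoreOf 2 E) ⊓ Subgroup.centralizer (E : Set G)
local notation "NE" => Subgroup.normalizer (E : Set G)
local notation "WC" => ⁅omegaOneCenter 2 (pCoreOf 2 E), E⁆
local notation "JT" => thompsonSubgroupOf 2 (T : Subgroup G)

/-- The core of a block for the prime two is its module. -/
theorem core_facts (hE : IsBaumannBlock 2 (T : Subgroup G) E) : QE = WE ∧ WE = WC := by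
  have h : QE = WE := by
    rcases hE.2.2.2.2 with ⟨F, iF, iFt, n, -, -, -, h | ⟨h3, -⟩⟩ | ⟨-, m, -, -, h⟩
    · exact h
    · norm_num at h3
    · exact h
  have h2 := hE.2.2.1
  rw [h] at h2
  exact ⟨h, h2.symm⟩

theorem comm_mem_WE {x w : G} (hx : x ∈ NE) (hw : w ∈ WE) : ⁅x, w⁆ ∈ WE :=
  mul_mem (conj_mem_WE hx hw) (inv_mem hw)

theorem comm_mem_WE' {x w : G} (hx : x ∈ NE) (hw : w ∈ WE) : ⁅w, x⁆ ∈ WE := by
  rw [← commutatorElement_inv]
  exact inv_mem (comm_mem_WE hx hw)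

/-- The coordinates of a commutator with the module. -/
theorem coord_comm {M : Type*} [AddCommGroup M] (ρ : Rep 2 E M) (x : ↥NE) {w : G} (hw : w ∈ WE) :
    ρ.coord ⟨⁅(x : G), w⁆, comm_mem_WE x.2 hw⟩ = ρ.act x (ρ.coord ⟨w, hw⟩) + ρ.coord ⟨w, hw⟩ := by
  rw [ρ.act_coord, ← ρ.coord_mul]
  congr 1
  refine Subtype.ext ?_
  show (x : G) * w * (x : G)⁻¹ * w⁻¹ = (x : G) * w * (x : G)⁻¹ * w
  rw [inv_eq_self_of_sq]
  where
    inv_eq_self_of_sq : w⁻¹ = w := inv_eq_of_mul_eq_one_right (by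
      rw [← pow_two]; exact BlockLocation.pow_eq_one_of_mem_omegaCenter _ hw)

variable (T E) in
/-- The two forms of a commutator of a nearly central involution not centralizing the block. -/
def Shape (z : G) : Prop :=
  z ∈ WC ∧
    ((∃ x ∈ JT, x ∈ NE ∧ x ∉ centralizer ((WC : Subgroup G) : Set G) ∧
        ∀ w ∈ (WC : Subgroup G), ⁅x, w⁆ = 1 ∨ ⁅x, w⁆ = z) ∨
      ∃ A ∈ maxElementaryAbelianSubgroups 2 G, A ≤ (T : Subgroup G) ∧
        ∃ w ∈ (WC : Subgroup G), (∃ a ∈ A, ⁅w, a⁆ = z) ∧ ∀ a ∈ A, ⁅w, a⁆ = 1 ∨ ⁅w, a⁆ = z)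

/-- Commutators of elements centralizing the module centralize the block. -/
theorem comm_mem_centralizer (hE : IsBaumannBlock 2 (T : Subgroup G) E) {x y : G} (hx : x ∈ NE) (hy : y ∈ NE)
    (hxc : x ∈ centralizer ((WC : Subgroup G) : Set G)) (hyc : y ∈ centralizer ((WC : Subgroup G) : Set G)) :
    ⁅x, y⁆ ∈ centralizer (E : Set G) := by
  have hQ : QE = WC := (core_facts hE).1.trans (core_facts hE).2
  have hcom : ∀ {a b : G}, a ∈ (WC : Subgroup G) → b ∈ (WC : Subgroup G) → a * b = b * a := fun ha hb =>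
    BlockLocation.omegaCenter_comm _ (commutator_WE_le ha) (commutator_WE_le hb)
  have key : ∀ {g e : G}, g ∈ NE → g ∈ centralizer ((WC : Subgroup G) : Set G) → e ∈ E →
      ∃ a ∈ (WC : Subgroup G), g * e * g⁻¹ = a * e := fun {g e} hg hgc he => by
    refine ⟨g * e * g⁻¹ * e⁻¹, ?_, by simp⟩
    have h := inv_mem (commutator_mem_core hE hg hgc he)
    rw [hQ, commutatorElement_inv] at h
    exact h
  refine mem_centralizer_iff.2 fun e he => ?_
  set e₀ := (y * x)⁻¹ * e * (y * x) with he₀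
  have he₀E : e₀ ∈ E := by
    have := (mem_normalizer_iff.1 (inv_mem (mul_mem hy hx) : (y * x)⁻¹ ∈ NE) e).1 he
    rwa [inv_inv] at this
  obtain ⟨a, ha, hea⟩ := key hx hxc he₀E
  obtain ⟨b, hb, heb⟩ := key hy hyc he₀E
  have h1 : x * y * e₀ * (x * y)⁻¹ = b * a * e₀ := by
    calc x * y * e₀ * (x * y)⁻¹ = x * (y * e₀ * y⁻¹) * x⁻¹ := by group
      _ = (x * b * x⁻¹) * (x * e₀ * x⁻¹) := by rw [heb]; group
      _ = _ := by rw [← mem_centralizer_iff.1 hxc b hb, mul_inv_cancel_right, hea, mul_assoc]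
  have h2 : y * x * e₀ * (y * x)⁻¹ = a * b * e₀ := by
    calc y * x * e₀ * (y * x)⁻¹ = y * (x * e₀ * x⁻¹) * y⁻¹ := by group
      _ = (y * a * y⁻¹) * (y * e₀ * y⁻¹) := by rw [hea]; group
      _ = _ := by rw [← mem_centralizer_iff.1 hyc a ha, mul_inv_cancel_right, heb, mul_assoc]
  have h3 : x * y * e₀ * (x * y)⁻¹ = e := by
    rw [h1, hcom hb ha, ← h2, he₀]; group
  calc e * ⁅x, y⁆ = x * y * e₀ * (x * y)⁻¹ * ⁅x, y⁆ := by rw [h3]
    _ = ⁅x, y⁆ * e := by rw [he₀, commutatorElement_def]; group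

/-- Some elementary abelian subgroup of largest order in `T` moves the module. -/
theorem exists_moving (hG : centralizer (pCore 2 G : Set G) ≤ pCore 2 G)
    (hE : IsBaumannBlock 2 (T : Subgroup G) E) :
    (WC : Subgroup G) ≤ (T : Subgroup G) ∧ ∃ A ∈ maxElementaryAbelianSubgroups 2 G, A ≤ (T : Subgroup G) ∧
      ¬ A ≤ centralizer ((WC : Subgroup G) : Set G) := by
  refine ⟨((BlockLocation.main hG hE).2.1).trans ((BlockModule.omegaCenter_le _).trans
      ((CharP.isPGroup_pCore 2 G).le_sylow_of_normal T)), ?_⟩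
  by_contra h
  push Not at h
  exact (BlockLocation.main hG hE).2.2 (commutator_eq_bot_iff_le_centralizer.mpr
    (le_centralizer_iff.mp (thompson_le T h)))

/-- An offender that is not over-large has the module in a subgroup of largest order. -/
theorem max_sup (hE : IsBaumannBlock 2 (T : Subgroup G) E) {M : Type*} [AddCommGroup M] [Finite M] (ρ : Rep 2 E M)
    {A : Subgroup G} (hA : A ∈ maxElementaryAbelianSubgroups 2 G) (hAN : A ≤ NE)
    (hle : Nat.card (ρ.image A) * Nat.card (ρ.fixedAdd A) ≤ Nat.card M) :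
    A ⊓ centralizer ((WC : Subgroup G) : Set G) ⊔ (WC : Subgroup G) ∈ maxElementaryAbelianSubgroups 2 G := by
  set C := centralizer ((WC : Subgroup G) : Set G) with hC
  have hel : IsElementaryAbelian 2 (A ⊓ C ⊔ (WC : Subgroup G)) :=
    IsElementaryAbelian.sup (IsElementaryAbelian.mono hA.1 inf_le_left) WC_elementary inf_le_right
  have hcard := GlaubermanReplacement.card_sup_mul_card_inf
    (A := A ⊓ C) (B := (WC : Subgroup G)) (inf_le_right.trans (Subgroup.centralizer_le_normalizer _))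
  have hinf : Nat.card ↥(A ⊓ C ⊓ (WC : Subgroup G)) ≤ Nat.card ρ.onWC.ker * Nat.card (ρ.fixedAdd A) := by
    rw [← ρ.card_preimage hE]
    refine le_trans (card_le_of_le (show A ⊓ C ⊓ (WC : Subgroup G) ≤ (WC : Subgroup G) ⊓ centralizer (A : Set G) from
      le_inf inf_le_right (inf_le_left.trans (inf_le_left.trans fun a ha b hb =>
        (isElementaryAbelian_iff.mp hA.1).1 b hb a ha)))) ?_
    rw [← Nat.card_congr (subgroupOfEquivOfLe (inf_le_left :
      (WC : Subgroup G) ⊓ centralizer (A : Set G) ≤ WC)).toEquiv]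
    exact card_le_of_le (ρ.fixed_le hAN)
  have h1 : Nat.card (ρ.image A) * Nat.card ↥(A ⊓ C) = Nat.card A := by
    rw [ρ.card_image hE hAN]; exact relIndex_mul_card_inf C A
  refine ⟨hel, fun B hB => (hA.2 B hB).trans (Nat.le_of_mul_le_mul_right ?_
    (Nat.card_pos (α := ↥(A ⊓ C ⊓ (WC : Subgroup G)))))⟩
  rw [hcard, ← ρ.card_ker_mul_card hE, ← h1]
  calc Nat.card (ρ.image A) * Nat.card ↥(A ⊓ C) * Nat.card ↥(A ⊓ C ⊓ (WC : Subgroup G))
      ≤ Nat.card (ρ.image A) * Nat.card ↥(A ⊓ C) * (Nat.card ρ.onWC.ker * Nat.card (ρ.fixedAdd A)) :=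
        Nat.mul_le_mul_left _ hinf
    _ = Nat.card ↥(A ⊓ C) * (Nat.card ρ.onWC.ker * (Nat.card (ρ.image A) * Nat.card (ρ.fixedAdd A))) := by ring
    _ ≤ _ := Nat.mul_le_mul_left _ (Nat.mul_le_mul_left _ hle)

theorem IsPP.coe {z : ↥(T : Subgroup G)} (h : IsPP z) :
    ∃ x ∈ JT, x * x = 1 ∧ (∃ y ∈ JT, ⁅x, y⁆ = (z : G)) ∧ ∀ u ∈ JT, ⁅x, u⁆ = 1 ∨ ⁅x, u⁆ = (z : G) := by
  obtain ⟨-, x, hx, hxx, ⟨y, hy, hxy⟩, hu⟩ := h
  refine ⟨x, mem_map_of_mem _ hx, congrArg Subtype.val hxx, ⟨y, mem_map_of_mem _ hy, congrArg Subtype.val hxy⟩, ?_⟩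
  rintro _ ⟨u, hu', rfl⟩
  exact (hu u hu').imp (congrArg Subtype.val) (congrArg Subtype.val)

/-- A commutator of a nearly central involution centralizes the block or has one of the two forms. -/
theorem pp_shape (hG : centralizer (pCore 2 G : Set G) ≤ pCore 2 G)
    (hE : IsBaumannBlock 2 (T : Subgroup G) E) (hEs : E.IsSubnormal)
    (hmax : ∀ A ∈ maxElementaryAbelianSubgroups 2 G, A ≤ (T : Subgroup G) →
      ¬ A ≤ centralizer ((WC : Subgroup G) : Set G) →
      A ⊓ centralizer ((WC : Subgroup G) : Set G) ⊔ (WC : Subgroup G) ∈ maxElementaryAbelianSubgroups 2 G)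
    {z : ↥(T : Subgroup G)} (hz : IsPP z) (hzC : (z : G) ∉ centralizer (E : Set G)) : Shape T E (z : G) := by
  obtain ⟨x, hxJ, hxx, ⟨y, hyJ, hxy⟩, hu⟩ := hz.coe
  have hJN : JT ≤ NE := thompson_le_NE hG hE hEs T
  obtain ⟨hWT, A₀, hA₀, hA₀T, hA₀C⟩ := exists_moving hG hE
  have hWJ : (WC : Subgroup G) ≤ JT := le_sup_right.trans
    (le_thompsonSubgroupOf (hmax _ hA₀ hA₀T hA₀C) (sup_le (inf_le_left.trans hA₀T) hWT))
  have hz1 : (z : G) ≠ 1 := fun e => hz.1 (Subtype.ext e)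
  set C := centralizer ((WC : Subgroup G) : Set G) with hC
  have hWW : ∀ {g w : G}, g ∈ NE → w ∈ (WC : Subgroup G) → ⁅g, w⁆ ∈ (WC : Subgroup G) := fun hg hw =>
    (core_facts hE).2.le (comm_mem_WE hg ((core_facts hE).2.ge hw))
  by_cases hxc : x ∈ C
  swap
  · have hval : ∀ w ∈ (WC : Subgroup G), ⁅x, w⁆ = 1 ∨ ⁅x, w⁆ = (z : G) := fun w hw => hu w (hWJ hw)
    refine ⟨?_, Or.inl ⟨x, hxJ, hJN hxJ, hxc, hval⟩⟩
    obtain ⟨w, hw, hne⟩ : ∃ w ∈ (WC : Subgroup G), ⁅x, w⁆ ≠ 1 := by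
      by_contra hall
      push Not at hall
      exact hxc (mem_centralizer_iff.2 fun w hw => (commutatorElement_eq_one_iff_mul_comm.1 (hall w hw)).symm)
    exact ((hval w hw).resolve_left hne) ▸ hWW (hJN hxJ) hw
  -- `x` commutes with the part of `J` centralizing the module
  have hcomm : ∀ g ∈ JT, g ∈ C → x * g = g * x := fun g hg hgc =>
    commutatorElement_eq_one_iff_mul_comm.1 ((hu g hg).resolve_right fun e =>
      hzC (e ▸ comm_mem_centralizer hE (hJN hxJ) (hJN hg) hxc hgc))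
  obtain ⟨A, hA, hAT, a₁, ha₁, hne⟩ : ∃ A ∈ maxElementaryAbelianSubgroups 2 G, A ≤ (T : Subgroup G) ∧
      ∃ a ∈ A, ⁅x, a⁆ ≠ 1 := by
    by_contra hall
    push Not at hall
    have hy' := thompson_le (K := centralizer ({x} : Set G)) T (fun A hA hAT a ha =>
      mem_centralizer_singleton_iff.2 (commutatorElement_eq_one_iff_mul_comm.1 (hall A hA hAT a ha)).symm) hyJ
    exact hz1 (hxy ▸ commutatorElement_eq_one_iff_mul_comm.2 (mem_centralizer_singleton_iff.1 hy').symm)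
  have hAJ : A ≤ JT := le_thompsonSubgroupOf hA hAT
  have hAC : ¬ A ≤ C := fun h => hne (commutatorElement_eq_one_iff_mul_comm.2 (hcomm _ (hAJ ha₁) (h ha₁)))
  have hB := hmax A hA hAT hAC
  have hxB : x ∈ A ⊓ C ⊔ (WC : Subgroup G) := by
    refine mem_of_centralizes hB (mem_centralizer_iff.2 fun g hg => ?_) (by rw [pow_two, hxx])
    have h : A ⊓ C ⊔ (WC : Subgroup G) ≤ centralizer ({x} : Set G) := sup_le
      (fun g hg => mem_centralizer_singleton_iff.2 (hcomm g (hAJ hg.1) hg.2).symm)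
      fun g hg => mem_centralizer_singleton_iff.2 (mem_centralizer_iff.1 hxc g hg)
    exact mem_centralizer_singleton_iff.1 (h hg)
  rw [← SetLike.mem_coe, Subgroup.coe_mul_of_left_le_normalizer_right _ _
    (inf_le_right.trans (Subgroup.centralizer_le_normalizer _))] at hxB
  obtain ⟨a₀, ⟨ha₀, ha₀c⟩, w, hw, rfl⟩ := hxB
  have heq : ∀ a ∈ A, ⁅a₀ * w, a⁆ = ⁅w, a⁆ := fun a ha => by
    have h1 : a * a₀⁻¹ * a⁻¹ = a₀⁻¹ := by
      rw [(isElementaryAbelian_iff.mp hA.1).1 a ha _ (inv_mem ha₀), mul_inv_cancel_right]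
    have h2 : ⁅w, a⁆ ∈ (WC : Subgroup G) := by
      rw [← commutatorElement_inv]; exact inv_mem (hWW (hJN (hAJ ha)) hw)
    calc ⁅a₀ * w, a⁆ = a₀ * ⁅w, a⁆ * (a * a₀⁻¹ * a⁻¹) := by simp [commutatorElement_def, mul_assoc]
      _ = _ := by rw [h1, ← mem_centralizer_iff.1 ha₀c _ h2, mul_inv_cancel_right]
  have hval : ∀ a ∈ A, ⁅w, a⁆ = 1 ∨ ⁅w, a⁆ = (z : G) := fun a ha => heq a ha ▸ hu a (hAJ ha)
  have hza : ⁅w, a₁⁆ = (z : G) := (hval a₁ ha₁).resolve_left (heq a₁ ha₁ ▸ hne)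
  refine ⟨?_, Or.inr ⟨A, hA, hAT, w, hw, ⟨a₁, ha₁, hza⟩, hval⟩⟩
  rw [← hza, ← commutatorElement_inv]
  exact inv_mem (hWW (hJN (hAJ ha₁)) hw)

end Cfsg.Agent.PLocal.CStar.Assembly
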