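import Cfsg.Agent.Lib.PLocal.CStar.Setup.ThreeY
import Cfsg.Agent.Lib.PLocal.CStar.Setup.OrbitY
import Cfsg.Agent.Lib.PLocal.CStar.Three.Main
import Cfsg.Agent.Lib.PLocal.CStar.Assembly.Bridge

/-!
From the theorem on planes to the small blocks at `p = 3`.
-/

set_option linter.all false
set_option autoImplicit false

namespace Cfsg.Agent.PLocal.CStar.Assembly

open Subgroup Cfsg
open Cfsg.Agent.PLocal.CStar.Setup (IsLin orbit self_mem_orbit EnvY envY_elim yOf zT_le_yOf)
open Cfsg.Lib.Offender (fixed)
open Cfsg.Agent.FFNatural (cg)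

universe u

variable {G : Type u} [Group G] [Finite G] [Fact (Nat.Prime 3)] {T : Sylow 3 G}

/-- An orbit generating with a parabolic subgroup is subnormal. -/
theorem subnormal_three (hG : centralizer (pCore 3 G : Set G) ≤ pCore 3 G)
    {X Q : Subgroup G} (hX : OrbitBlock T (fun X => ¬ IsLin 3 X) X) (hTQ : (T : Subgroup G) ≤ Q)
    (hQ : IsPMinimal 3 ↥Q) (htop : (⨆ E ∈ orbit (T : Subgroup G) X, E) ⊔ Q = ⊤) : X.IsSubnormal := by
  refine envY_elim hG T fun {Γ V} _ _ _ _ _ {f π co} h => ?_
  obtain ⟨P, hP, hPE, htrans, hfull⟩ := h.exists_planes hX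
  have hfam : Three.Fam f (T.mapSurjective h.surj) (Subgroup.map π (baumannSubgroupOf 3 (T : Subgroup G)))
      (EnvY.family 3 π) P :=
    { planes := hP
      conj := fun _ hA g => h.family_conj hA g
      comm := fun _ hA => (ThompsonSubgroup.isElementaryAbelian_iff.1 (EnvY.family_elementary hA)).1
      exp := fun _ hA => (ThompsonSubgroup.isElementaryAbelian_iff.1 (EnvY.family_elementary hA)).2
      mem_J := fun _ hA hle => h.family_le hA hle
      bound := fun _ hA => h.family_weight_ge hA
      sub := fun _ hA _ hB => (h.family_weight hA hB).1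
      sub_eq := fun _ hA _ hB => (h.family_weight hA hB).2
      full := hfull }
  have h1 := hfam.subnormal (fun N hN hp => h.reduced hN hp) (map_mono hTQ : _ ≤ Q.map π)
    (h.uniqOver_of_minimal hTQ hQ).2 (top_unique ((Subgroup.map_top_of_surjective π h.surj).ge.trans (by
      rw [← htop, Subgroup.map_sup, Subgroup.map_iSup]
      refine sup_le_sup_right (iSup_le fun E => ?_) _
      rw [Subgroup.map_iSup]
      refine iSup_le fun hE => ?_
      rw [← hPE ⟨E, hE⟩]
      exact le_iSup (fun k => (P k).E) _))) htrans ⟨X, self_mem_orbit _ _⟩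
  rw [hPE] at h1
  obtain ⟨hYc, -⟩ := ThompsonSubgroup.isElementaryAbelian_iff.1 (Setup.yOf_elementary hG T)
  exact subnormal_of_image_centralizer hG hX.block
    ((CharP.isPGroup_pCore 3 G).to_le ((Setup.yOf_le_vOf hG T).trans (BlockModule.omegaCenter_le _)))
    hYc (zT_le_yOf _) π h.kerEq.le h1

/-- The small blocks at `p = 3` are covered. -/
theorem smallCovered_three
    (hG : centralizer (pCore 3 G : Set G) ≤ pCore 3 G) : SmallCovered T := by
  refine smallCovered_of_local hG fun X Q hX hTQ hQ => ?_
  set K := (⨆ E ∈ orbit (T : Subgroup G) X, E) ⊔ Q with hK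
  have hT : (T : Subgroup G) ≤ K := hTQ.trans le_sup_right
  have hQK : Q ≤ K := le_sup_right
  have hXK : X ≤ K := le_sup_of_le_left (le_iSup₂_of_le X (self_mem_orbit _ _) le_rfl)
  have hO : OrbitBlock (T.subtype hT) (fun X => ¬ IsLin 3 X) (X.subgroupOf K) := by
    refine ⟨block_of_map K.subtype_injective ?_, fun hl => hX.kind_mem ?_, fun t ht => ?_⟩
    · rw [map_sylow, map_subgroupOf_eq_of_le hXK]
      exact hX.block
    · have h1 := (isLin_map K.subtype_injective).2 hl
      rwa [map_subgroupOf_eq_of_le hXK] at h1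
    · have hm : (Blocks.cj t (X.subgroupOf K)).map K.subtype = Blocks.cj (t : G) X := by
        show ((X.subgroupOf K).map (MulAut.conj t).toMonoidHom).map K.subtype = X.map (MulAut.conj (t : G)).toMonoidHom
        conv_rhs => rw [← map_subgroupOf_eq_of_le hXK]
        rw [Subgroup.map_map, Subgroup.map_map]
        rfl
      rcases hX.comm _ (mem_subgroupOf.1 ht) with e | e
      · exact Or.inl (Subgroup.map_injective K.subtype_injective (by rw [hm, e, map_subgroupOf_eq_of_le hXK]))
      · refine Or.inr (Subgroup.map_injective K.subtype_injective ?_)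
        rw [Subgroup.map_commutator, hm, map_subgroupOf_eq_of_le hXK, e, Subgroup.map_bot]
  refine subnormal_three (charP_sub hG T hT) hO (Q := Q.subgroupOf K)
    (fun x hx => mem_subgroupOf.2 (hTQ (mem_subgroupOf.1 hx)))
    (isPMinimal_of_equiv (subgroupOfEquivOfLe hQK).symm hQ) ?_
  refine Subgroup.map_injective K.subtype_injective (le_antisymm (map_mono le_top) ?_)
  rw [← MonoidHom.range_eq_map, range_subtype, Subgroup.map_sup, map_subgroupOf_eq_of_le hQK]
  exact sup_le_sup_right (sup_orbit_le hT hXK) _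

end Cfsg.Agent.PLocal.CStar.Assembly
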