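import Cfsg.Agent.Lib.PLocal.CStar.Assembly.TwoCovered
import Cfsg.Agent.Lib.PLocal.CStar.Assembly.ThreeWiring

/-!
Every block of a parabolic subgroup outside `C*` is covered, for every prime.
-/

set_option linter.all false
set_option autoImplicit false

namespace Cfsg.Agent.PLocal.CStar.Assembly

open Subgroup Cfsg

universe u

variable {G : Type u} [Group G] [Finite G] {p : ℕ} [Fact p.Prime] {T : Sylow p G}

theorem blocksCovered (hG : centralizer (pCore p G : Set G) ≤ pCore p G) : BlocksCovered T := by
  by_cases h2 : p = 2
  · subst h2
    exact blocksCovered_two hG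
  by_cases h3 : p = 3
  · subst h3
    exact blocksCovered_of_small hG (smallCovered_three hG)
  · refine blocksCovered_of_small hG (smallCovered_of_five hG ?_)
    have hp := (Fact.out : p.Prime)
    have := hp.two_le
    rcases eq_or_ne p 4 with h4 | h4
    · subst h4; norm_num at hp
    · omega

end Cfsg.Agent.PLocal.CStar.Assembly
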