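import Cfsg.Agent.Lib.PLocal.CStar.Assembly.LinTransport
import Cfsg.Agent.Lib.PLocal.CStar.Assembly.Covered

/-!
A block with a commuting orbit is subnormal as soon as it is subnormal with each minimal parabolic subgroup: then all
its conjugates are blocks, so the Baumann subgroup, and with it the block, normalizes all of them.
-/

set_option linter.all false
set_option autoImplicit false

namespace Cfsg.Agent.PLocal.CStar.Assembly

open Subgroup Cfsg
open Cfsg.Agent.PLocal.CStar.Setup (IsLin orbit self_mem_orbit)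
open scoped commutatorElement

universe u

variable {G : Type u} [Group G] [Finite G] {p : ℕ} [Fact p.Prime] {T : Sylow p G}

/-- A block with a commuting orbit under `T`, of a given kind. -/
structure OrbitBlock (T : Sylow p G) (kind : Subgroup G → Prop) (X : Subgroup G) : Prop where
  block : IsBaumannBlock p (T : Subgroup G) X
  kind_mem : kind X
  comm : ∀ t ∈ (T : Subgroup G), Blocks.cj t X = X ∨ ⁅Blocks.cj t X, X⁆ = ⊥

variable {kind : Subgroup G → Prop}

/-- A block all whose conjugates are blocks is subnormal. -/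
theorem subnormal_of_conj_block {X : Subgroup G} (hX : IsBaumannBlock p (T : Subgroup G) X)
    (h : ∀ g, IsBaumannBlock p (T : Subgroup G) (Blocks.cj g X)) : X.IsSubnormal := by
  set N := ⨆ g : G, Blocks.cj g X
  have hXN : ∀ g, X ≤ normalizer (Blocks.cj g X : Set G) := by
    intro g
    conv_lhs => rw [← hX.2.1]
    rw [commutator_le]
    intro x _ b hb
    have h1 : x * b * x⁻¹ ∈ normalizer (Blocks.cj g X : Set G) := by
      refine Blocks.cj_eq_self.1 ?_
      have h2 : Blocks.cj b (Blocks.cj (x⁻¹ * g) X) = Blocks.cj (x⁻¹ * g) X :=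
        Blocks.cj_eq_self.2 (BlockBasic.baumann_le_normalizer (h (x⁻¹ * g)) hb)
      calc Blocks.cj (x * b * x⁻¹) (Blocks.cj g X)
          = Blocks.cj x (Blocks.cj b (Blocks.cj (x⁻¹ * g) X)) := by
            simp only [Blocks.cj_cj, mul_assoc]
        _ = _ := by rw [h2, Blocks.cj_cj, mul_inv_cancel_left]
    rw [commutatorElement_def]
    exact mul_mem h1 (inv_mem (BlockBasic.baumann_le_normalizer (h g) hb))
  have hN : N.Normal := by
    refine normalizer_eq_top_iff.1 (top_unique fun a _ => ?_)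
    rw [← Blocks.cj_eq_self]
    refine eq_of_le_of_card_ge ?_ (Blocks.card_cj a _).ge
    rw [Blocks.cj, Subgroup.map_iSup]
    refine iSup_le fun g => ?_
    show Blocks.cj a (Blocks.cj g X) ≤ N
    rw [Blocks.cj_cj]
    exact le_iSup (fun g => Blocks.cj g X) (a * g)
  have hle : X ≤ N := by
    have := le_iSup (fun g : G => Blocks.cj g X) 1
    rwa [Blocks.cj_one] at this
  refine IsSubnormal.step _ _ hle (Normal.isSubnormal hN)
    ((normal_subgroupOf_iff_le_normalizer hle).2 (iSup_le fun g => ?_))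
  -- each conjugate normalizes `X`
  have h1 := hXN g⁻¹
  intro y hy
  obtain ⟨x, hx, rfl⟩ := hy
  refine Blocks.cj_eq_self.1 ?_
  show Blocks.cj (g * x * g⁻¹) X = X
  have h2 := Blocks.cj_eq_self.2 (h1 hx)
  rw [← Blocks.cj_cj, ← Blocks.cj_cj, h2, Blocks.cj_cj, mul_inv_cancel, Blocks.cj_one]

/-- Conjugation by a parabolic subgroup keeps an orbit block subnormal with it. -/
theorem OrbitBlock.cj_minimal (hG : centralizer (pCore p G : Set G) ≤ pCore p G)
    (hkind : ∀ g X, kind X → kind (Blocks.cj g X)) {X Q : Subgroup G} (hX : OrbitBlock T kind X)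
    (hTQ : (T : Subgroup G) ≤ Q)
    (hs : (X.subgroupOf ((⨆ E ∈ orbit (T : Subgroup G) X, E) ⊔ Q)).IsSubnormal) {c : G} (hc : c ∈ Q) :
    OrbitBlock T kind (Blocks.cj c X) := by
  set K := (⨆ E ∈ orbit (T : Subgroup G) X, E) ⊔ Q with hK
  have hT : (T : Subgroup G) ≤ K := hTQ.trans le_sup_right
  have hQK : Q ≤ K := le_sup_right
  have hXK : X ≤ K := le_sup_of_le_left (le_iSup₂_of_le X (self_mem_orbit _ _) le_rfl)
  have hGK := charP_sub hG T hT
  set X' := X.subgroupOf K
  have hb : IsBaumannBlock p ((T.subtype hT : Sylow p ↥K) : Subgroup ↥K) X' := by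
    refine block_of_map K.subtype_injective ?_
    rw [map_sylow, map_subgroupOf_eq_of_le hXK]
    exact hX.block
  have hmapcj : ∀ a : ↥K, (Blocks.cj a X').map K.subtype = Blocks.cj (a : G) X := fun a => by
    show (X'.map (MulAut.conj a).toMonoidHom).map K.subtype = X.map (MulAut.conj (a : G)).toMonoidHom
    conv_rhs => rw [← map_subgroupOf_eq_of_le hXK]
    rw [Subgroup.map_map, Subgroup.map_map]
    rfl
  have key : ∀ a : ↥K, IsBaumannBlock p ((T.subtype hT : Sylow p ↥K) : Subgroup ↥K) (Blocks.cj a X') ∧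
      (Blocks.cj a X').IsSubnormal := fun a => block_conj hGK hb hs a
  refine ⟨?_, hkind c X hX.kind_mem, fun t ht => ?_⟩
  · have h1 := block_map K.subtype_injective (key ⟨c, hQK hc⟩).1
    rwa [map_sylow, hmapcj] at h1
  · obtain ⟨h1, h2⟩ := key ⟨c, hQK hc⟩
    obtain ⟨h3, h4⟩ := key ⟨t * c, mul_mem (hT ht) (hQK hc)⟩
    rw [Blocks.cj_cj]
    by_cases e : Blocks.cj (t * c) X = Blocks.cj c X
    · exact Or.inl e
    refine Or.inr ?_
    have h5 := members_comm hGK h3 h4 h1 h2 (fun e' => e (by
      have := congrArg (Subgroup.map K.subtype) e'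
      rwa [hmapcj, hmapcj] at this))
    have h6 := congrArg (Subgroup.map K.subtype) h5
    rwa [Subgroup.map_commutator, hmapcj, hmapcj, Subgroup.map_bot] at h6

theorem OrbitBlock.cj_normalizer (hkind : ∀ g X, kind X → kind (Blocks.cj g X)) {X : Subgroup G}
    (hX : OrbitBlock T kind X) {g : G} (hg : g ∈ normalizer ((T : Subgroup G) : Set G)) :
    OrbitBlock T kind (Blocks.cj g X) := by
  refine ⟨block_cj_normalizer hX.block hg, hkind g X hX.kind_mem, fun t ht => ?_⟩
  have ht' : g⁻¹ * t * g ∈ (T : Subgroup G) := (mem_normalizer_iff''.1 hg t).1 ht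
  rcases hX.comm _ ht' with e | e
  · refine Or.inl ?_
    have := congrArg (Blocks.cj g) e
    rw [Blocks.cj_cj] at this ⊢
    rwa [show g * (g⁻¹ * t * g) = t * g by group] at this
  · refine Or.inr ?_
    have := congrArg (Blocks.cj g) e
    rw [Blocks.cj_commutator, Blocks.cj_cj, Blocks.cj_bot] at this
    rw [Blocks.cj_cj]
    rwa [show g * (g⁻¹ * t * g) = t * g by group] at this

/-- An orbit block subnormal with each minimal parabolic subgroup is subnormal. -/
theorem OrbitBlock.subnormal (hG : centralizer (pCore p G : Set G) ≤ pCore p G)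
    (hkind : ∀ g X, kind X → kind (Blocks.cj g X))
    (hloc : ∀ X Q : Subgroup G, OrbitBlock T kind X → (T : Subgroup G) ≤ Q → IsPMinimal p ↥Q →
      (X.subgroupOf ((⨆ E ∈ orbit (T : Subgroup G) X, E) ⊔ Q)).IsSubnormal)
    {X : Subgroup G} (hX : OrbitBlock T kind X) : X.IsSubnormal := by
  let N : Subgroup G :=
    { carrier := {g | ∀ X : Subgroup G, OrbitBlock T kind X →
        OrbitBlock T kind (Blocks.cj g X) ∧ OrbitBlock T kind (Blocks.cj g⁻¹ X)}
      one_mem' := fun X hX => by rw [inv_one, Blocks.cj_one]; exact ⟨hX, hX⟩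
      mul_mem' := fun {a b} ha hb X hX => ⟨by rw [← Blocks.cj_cj]; exact (ha _ (hb X hX).1).1,
        by rw [mul_inv_rev, ← Blocks.cj_cj]; exact (hb _ (ha X hX).2).2⟩
      inv_mem' := fun {a} ha X hX => by rw [inv_inv]; exact ⟨(ha X hX).2, (ha X hX).1⟩ }
  have hle : (⊤ : Subgroup G) ≤ N := by
    refine (CharP.IsolatedPMinimal.generation T ⊤ le_top).trans (sup_le (inf_le_left.trans ?_) (iSup_le fun Q => ?_))
    · exact fun g hg X hX => ⟨hX.cj_normalizer hkind hg, hX.cj_normalizer hkind (inv_mem hg)⟩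
    · exact fun g hg X hX =>
        ⟨hX.cj_minimal hG hkind Q.2.1 (hloc X Q hX Q.2.1 Q.2.2.2) hg,
          hX.cj_minimal hG hkind Q.2.1 (hloc X Q hX Q.2.1 Q.2.2.2) ((Q : Subgroup G).inv_mem hg)⟩
  exact subnormal_of_conj_block hX.block fun g => ((hle (mem_top g)) X hX).1.block

/-- The small blocks are covered once those with commuting orbits are subnormal with each minimal parabolic. -/
theorem smallCovered_of_local (hG : centralizer (pCore p G : Set G) ≤ pCore p G)
    (hloc : ∀ X Q : Subgroup G, OrbitBlock T (fun X => ¬ IsLin p X) X → (T : Subgroup G) ≤ Q → IsPMinimal p ↥Q →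
      (X.subgroupOf ((⨆ E ∈ orbit (T : Subgroup G) X, E) ⊔ Q)).IsSubnormal) :
    SmallCovered T := by
  intro P hT hmin hP 𝓟 hs X hX hXC hlin
  have hb := block_map (f := P.subtype) P.subtype_injective (hs.1 X hX)
  rw [map_sylow] at hb
  have hO : OrbitBlock T (fun X => ¬ IsLin p X) (X.map P.subtype) := by
    refine ⟨hb, hlin, fun t ht => ?_⟩
    set X' := X.map (MulAut.conj (⟨t, hT ht⟩ : ↥P)).toMonoidHom
    have hm : X'.map P.subtype = Blocks.cj t (X.map P.subtype) := by
      rw [Blocks.cj, Subgroup.map_map, Subgroup.map_map]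
      rfl
    by_cases e : X' = X
    · exact Or.inl (by rw [← hm, e])
    · refine Or.inr ?_
      rw [← hm, ← Subgroup.map_commutator, hs.2.2.1 _ (hs.2.1 X hX _) X hX e, Subgroup.map_bot]
  have hsn := hO.subnormal hG (fun g X h h' => h ((isLin_cj g).1 h')) hloc
  exact ⟨_, ⟨hb, hsn, hXC⟩, le_rfl, Or.inl rfl⟩

end Cfsg.Agent.PLocal.CStar.Assembly
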